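import Groth.Agent.Lib.KindDesc.Descent
import Groth.Agent.Lib.Synt92.KRImm
import Groth.Agent.Lib.Synt92.KRDescentScheme
import Groth.Prelude.Def_RegImm
import Mathlib.AlgebraicGeometry.Morphisms.Descent
import Mathlib.AlgebraicGeometry.Morphisms.LocalIso

/-! Immersions cut out locally by sequences with a descendable property. -/

set_option autoImplicit false

universe u

open CategoryTheory CategoryTheory.Limits AlgebraicGeometry

namespace Groth.Agent.Lib.KindDesc.Imm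

open Groth.Agent.Lib.KindDesc Groth.Agent.Lib.KindDesc.Loc
open Groth.Agent.Lib.Synt92.KRImm (mem_basicOpen_iff closed_of_le exists_closed_chart isAffine_preimage
  ker_app_basicOpen mem_prime_app_iff)
open Groth.Agent.Lib.Synt92.KRDescentScheme (ker_baseChange faithfullyFlat_appLE)

variable {Z X Y : Scheme.{u}} {Φ : Pred.{u}}

/-- The chart condition at a point. -/
def GenAt (Φ : Pred.{u}) (n : ℕ) (i : Z ⟶ X) {U : X.Opens} (hU : IsAffineOpen U) (z : Z) (hz : i z ∈ U) : Prop :=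
  GenLoc Φ n (RingHom.ker (i.app U).hom) (hU.primeIdealOf ⟨i z, hz⟩).asIdeal

theorem genAt_basicOpen (hP : Good Φ) (n : ℕ) (i : Z ⟶ X) {U : X.Opens} (hU : IsAffineOpen U)
    (hcl : IsClosedImmersion (i ∣_ U)) (z : Z) (g : Γ(X, U)) (hzU : i z ∈ U)
    (hz : i z ∈ X.basicOpen g) :
    GenAt Φ n i (hU.basicOpen g) z hz ↔ GenAt Φ n i hU z hzU := by
  haveI := hU.isLocalization_basicOpen g
  haveI := ((hU.basicOpen g).primeIdealOf ⟨i z, hz⟩).isPrime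
  have hp : ((hU.basicOpen g).primeIdealOf ⟨i z, hz⟩).asIdeal.comap
      (algebraMap Γ(X, U) Γ(X, X.basicOpen g)) = (hU.primeIdealOf ⟨i z, hzU⟩).asIdeal := by
    ext a
    rw [← not_iff_not, Ideal.mem_comap, ← mem_basicOpen_iff, ← mem_basicOpen_iff]
    change i z ∈ X.basicOpen ((X.presheaf.map (homOfLE (X.basicOpen_le g)).op).hom a) ↔ _
    erw [Scheme.basicOpen_res]
    exact ⟨fun h => h.2, fun h => ⟨hz, h⟩⟩
  rw [GenAt, GenAt, ker_app_basicOpen i hU hcl g, ← hp]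
  exact genLoc_away_iff hP g Γ(X, X.basicOpen g) _

theorem genAt_congr (n : ℕ) (i : Z ⟶ X) {U V : X.Opens} (e : U = V) (hU : IsAffineOpen U)
    (hV : IsAffineOpen V) (z : Z) (hz : i z ∈ U) (hz' : i z ∈ V) :
    GenAt Φ n i hU z hz ↔ GenAt Φ n i hV z hz' := by
  subst e
  rfl

/-- The condition does not depend on the chart. -/
theorem genAt_iff (hP : Good Φ) (n : ℕ) (i : Z ⟶ X) {U V : X.Opens} (hU : IsAffineOpen U) (hV : IsAffineOpen V)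
    (hcU : IsClosedImmersion (i ∣_ U)) (hcV : IsClosedImmersion (i ∣_ V)) (z : Z) (hz : i z ∈ U)
    (hz' : i z ∈ V) : GenAt Φ n i hU z hz ↔ GenAt Φ n i hV z hz' := by
  obtain ⟨f, g, e, hf⟩ := exists_basicOpen_le_affine_inter hU hV (i z) ⟨hz, hz'⟩
  rw [← genAt_basicOpen hP n i hU hcU z f hz hf, ← genAt_basicOpen hP n i hV hcV z g hz' (e ▸ hf)]
  exact genAt_congr n i e _ _ _ _ _

/-- The defining condition with a given length. -/
def AtN (Φ : Pred.{u}) (n : ℕ) (i : Z ⟶ X) (z : Z) : Prop :=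
  ∃ U : X.affineOpens, i z ∈ U.1 ∧ IsClosedImmersion (i ∣_ U.1) ∧
    ∃ rs : List Γ(X, U.1), rs.length = n ∧ Φ Γ(X, U.1) rs.length rs.get ∧
      RingHom.ker (i.app U.1).hom = Ideal.ofList rs

theorem h1At_iff (i : Z ⟶ X) (z : Z) :
    RegImm.IsRegularImmersionAt .h1 i z ↔ ∃ n, AtN H1 n i z :=
  ⟨fun ⟨U, h1, h2, rs, h3, h4⟩ => ⟨_, U, h1, h2, rs, rfl, h3, h4⟩,
    fun ⟨_, U, h1, h2, rs, _, h3, h4⟩ => ⟨U, h1, h2, rs, h3, h4⟩⟩

theorem quasiAt_iff (i : Z ⟶ X) (z : Z) :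
    RegImm.IsRegularImmersionAt .quasi i z ↔ ∃ n, AtN Quasi n i z :=
  ⟨fun ⟨U, h1, h2, rs, h3, h4⟩ => ⟨_, U, h1, h2, rs, rfl, h3, h4⟩,
    fun ⟨_, U, h1, h2, rs, _, h3, h4⟩ => ⟨U, h1, h2, rs, h3, h4⟩⟩

theorem genAt_of_atN (hP : Good Φ) {n : ℕ} {i : Z ⟶ X} {z : Z} (h : AtN Φ n i z) {U : X.Opens} (hU : IsAffineOpen U)
    (hcl : IsClosedImmersion (i ∣_ U)) (hz : i z ∈ U) : GenAt Φ n i hU z hz := by
  obtain ⟨⟨V, hV⟩, hzV, hcV, rs, rfl, hrs, hker⟩ := h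
  rw [genAt_iff hP _ i hU hV hcl hcV z hz hzV]
  haveI := (hV.primeIdealOf ⟨i z, hzV⟩).isPrime
  exact genLoc_of_gen hP (gen_of_list hrs hker) _

theorem atN_of_genAt (hP : Good Φ) {n : ℕ} {i : Z ⟶ X} {z : Z} {U : X.Opens} (hU : IsAffineOpen U)
    (hcl : IsClosedImmersion (i ∣_ U)) (hz : i z ∈ U) (h : GenAt Φ n i hU z hz) : AtN Φ n i z := by
  obtain ⟨g, hg, hgen⟩ := h
  haveI := hU.isLocalization_basicOpen g
  haveI : Module.Flat Γ(X, U) Γ(X, X.basicOpen g) := IsLocalization.flat _ (Submonoid.powers g)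
  obtain ⟨rs, h1, h2, h3⟩ := exists_list (gen_of_isUnit hP g (Localization.Away g) hgen Γ(X, X.basicOpen g)
    (IsLocalization.Away.algebraMap_isUnit g))
  refine ⟨⟨X.basicOpen g, hU.basicOpen g⟩, (mem_basicOpen_iff hU g ⟨i z, hz⟩).2 hg,
    closed_of_le i (X.basicOpen_le g) hcl, rs, h1, h2, ?_⟩
  rw [← h3]
  exact ker_app_basicOpen i hU hcl g

/-- Charts for a morphism over a smooth one. -/
theorem exists_smooth_chart (hP : Good Φ) (i : Z ⟶ X) [IsImmersion i] (j : Z ⟶ Y) [IsImmersion j] (p : Y ⟶ X)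
    [Smooth p] (h : j ≫ p = i) (z : Z) :
    ∃ (A B C : Type u) (_ : CommRing A) (_ : CommRing B) (_ : CommRing C) (_ : Algebra A B) (_ : Algebra A C)
      (_ : Algebra.Smooth A B) (ψ : B →ₐ[A] C) (Q : Ideal B) (_ : Q.IsPrime),
      Function.Surjective (algebraMap A C) ∧ RingHom.ker ψ.toRingHom ≤ Q ∧
      (∀ n, AtN Φ n i z ↔ GenLoc Φ n (RingHom.ker (algebraMap A C)) (Q.under A)) ∧
      ∀ n, AtN Φ n j z ↔ GenLoc Φ n (RingHom.ker ψ.toRingHom) Q := by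
  subst h
  obtain ⟨⟨U₀, hU₀⟩, hzU₀, -, hcU₀⟩ := exists_closed_chart (j ≫ p) z (O := ⊤) trivial
  obtain ⟨⟨U', hU'⟩, hzU', hU'U, hcU'⟩ := exists_closed_chart j z (O := p ⁻¹ᵁ U₀) hzU₀
  obtain ⟨hpU, hsU⟩ := isAffine_preimage (j ≫ p) hU₀ hcU₀
  obtain ⟨c, hcW, hzc⟩ := hpU.exists_basicOpen_le (V := j ⁻¹ᵁ U') ⟨z, hzU'⟩ hzU₀
  obtain ⟨a, rfl⟩ := hsU c
  rw [← Scheme.preimage_basicOpen] at hcW hzc
  let U := X.basicOpen a
  have hU : IsAffineOpen U := hU₀.basicOpen a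
  let V := U' ⊓ p ⁻¹ᵁ U
  have hV : IsAffineOpen V := by
    have : V = Y.basicOpen ((p.appLE U₀ U' hU'U).hom a) := by rw [Scheme.basicOpen_appLE]
    rw [this]
    exact hU'.basicOpen _
  have hVU : V ≤ p ⁻¹ᵁ U := inf_le_right
  have hcU : IsClosedImmersion ((j ≫ p) ∣_ U) := closed_of_le _ (X.basicOpen_le a) hcU₀
  have hcV : IsClosedImmersion (j ∣_ V) := closed_of_le _ inf_le_left hcU'
  obtain ⟨hW, hsC⟩ := isAffine_preimage (j ≫ p) hU hcU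
  have eW : (j ≫ p) ⁻¹ᵁ U = j ⁻¹ᵁ V := le_antisymm (fun x hx => ⟨hcW hx, hx⟩) (fun x hx => hx.2)
  have hzU : (j ≫ p) z ∈ U := hzc
  have hzV : j z ∈ V := eW.le hzc
  letI : Algebra Γ(X, U) Γ(Y, V) := (p.appLE U V hVU).hom.toAlgebra
  haveI : Algebra.Smooth Γ(X, U) Γ(Y, V) := RingHom.smooth_algebraMap.1 (p.smooth_appLE hU hV hVU)
  letI : Algebra Γ(X, U) Γ(Z, (j ≫ p) ⁻¹ᵁ U) := ((j ≫ p).app U).hom.toAlgebra
  let ψ : Γ(Y, V) →ₐ[Γ(X, U)] Γ(Z, (j ≫ p) ⁻¹ᵁ U) :=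
    { (j.appLE V ((j ≫ p) ⁻¹ᵁ U) eW.le).hom with
      commutes' := fun r => by
        change (j.appLE V ((j ≫ p) ⁻¹ᵁ U) eW.le).hom ((p.appLE U V hVU).hom r) = ((j ≫ p).app U).hom r
        rw [Scheme.Hom.app_eq_appLE, ← Scheme.Hom.appLE_comp_appLE j p U V ((j ≫ p) ⁻¹ᵁ U) hVU eW.le]
        rfl }
  have hkψ : RingHom.ker ψ.toRingHom = RingHom.ker (j.app V).hom := by
    change RingHom.ker (j.appLE V ((j ≫ p) ⁻¹ᵁ U) eW.le).hom = _
    have : ∀ (W : Z.Opens) (e : W = j ⁻¹ᵁ V),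
        RingHom.ker (j.appLE V W e.le).hom = RingHom.ker (j.app V).hom := by
      rintro W rfl
      rw [Scheme.Hom.app_eq_appLE]
    exact this _ eW
  haveI := (hV.primeIdealOf ⟨j z, hzV⟩).isPrime
  refine ⟨Γ(X, U), Γ(Y, V), Γ(Z, (j ≫ p) ⁻¹ᵁ U), inferInstance, inferInstance, inferInstance, inferInstance,
    inferInstance, inferInstance, ψ, (hV.primeIdealOf ⟨j z, hzV⟩).asIdeal, inferInstance, hsC, ?_, ?_, ?_⟩
  · intro f hf
    rw [hkψ] at hf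
    by_contra h
    have h1 : z ∈ j ⁻¹ᵁ Y.basicOpen f := (mem_basicOpen_iff hV f ⟨j z, hzV⟩).2 h
    rw [Scheme.preimage_basicOpen j f] at h1
    erw [RingHom.mem_ker.1 hf, Scheme.basicOpen_zero] at h1
    exact h1
  · intro n
    have hp : (hV.primeIdealOf ⟨j z, hzV⟩).asIdeal.under Γ(X, U) = (hU.primeIdealOf ⟨(j ≫ p) z, hzU⟩).asIdeal := by
      ext r
      exact mem_prime_app_iff p hU hV hVU (j z) hzV r
    rw [hp]
    exact ⟨fun h => genAt_of_atN hP h hU hcU hzU, fun h => atN_of_genAt hP hU hcU hzU h⟩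
  · intro n
    rw [hkψ]
    exact ⟨fun h => genAt_of_atN hP h hV hcV hzV, fun h => atN_of_genAt hP hV hcV hzV h⟩

theorem atN_baseChange (hP : Good Φ) {X Y X' Y' : Scheme.{u}} (i : Y ⟶ X) (g : X' ⟶ X) [Flat g] (i' : Y' ⟶ X')
    (g' : Y' ⟶ Y) (hsq : IsPullback g' i' i g) (z : Y') {n : ℕ} (h : AtN Φ n i (g' z)) : AtN Φ n i' z := by
  obtain ⟨⟨U, hU⟩, hzU, hcl, rs, rfl, hrs, hker⟩ := h
  have hzU' : i' z ∈ g ⁻¹ᵁ U := by
    change g (i' z) ∈ U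
    rw [← Scheme.Hom.comp_apply, ← hsq.w]
    exact hzU
  obtain ⟨U', hU', hzU'', hle⟩ := exists_isAffineOpen_mem_and_subset (x := i' z) (U := g ⁻¹ᵁ U) hzU'
  obtain ⟨hcl', hk⟩ := ker_baseChange i g i' g' hsq hU hcl hU' hle
  obtain ⟨l, hl, hlk, e⟩ := exists_list (gen_map hP _ (g.flat_appLE hU hU' hle) (gen_of_list hrs hker))
  exact ⟨⟨U', hU'⟩, hzU'', hcl', l, hl, hlk, hk.trans e⟩

/-- An immersion with the property restricted to a closed chart gives such an ideal. -/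
theorem exists_genLoc_of_chart (hP : Good Φ) {Z X : Scheme.{u}} (i : Z ⟶ X) (hi : ∀ z, ∃ n, AtN Φ n i z)
    {U : X.Opens} (hU : IsAffineOpen U) (hcl : IsClosedImmersion (i ∣_ U))
    (Q : PrimeSpectrum Γ(X, U)) (hQ : RingHom.ker (i.app U).hom ≤ Q.asIdeal) :
    ∃ n, GenLoc Φ n (RingHom.ker (i.app U).hom) Q.asIdeal := by
  obtain ⟨hW, hs⟩ := isAffine_preimage i hU hcl
  haveI := Q.isPrime
  let q : PrimeSpectrum Γ(Z, i ⁻¹ᵁ U) := ⟨Q.asIdeal.map (i.app U).hom, Ideal.map_isPrime_of_surjective hs hQ⟩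
  let w : (i ⁻¹ᵁ U : Z.Opens).toScheme := hW.isoSpec.inv q
  have hq : hW.primeIdealOf ⟨w.1, w.2⟩ = q := by
    change hW.isoSpec.hom (hW.isoSpec.inv q) = q
    rw [← Scheme.Hom.comp_apply, Iso.inv_hom_id]
    rfl
  obtain ⟨n, hn⟩ := hi w.1
  have hz : i w.1 ∈ U := w.2
  refine ⟨n, ?_⟩
  have h1 : Q.asIdeal = (hU.primeIdealOf ⟨i w.1, hz⟩).asIdeal := by
    ext a
    rw [← mem_prime_app_iff i hU hW le_rfl w.1 w.2 a, hq, ← Scheme.Hom.app_eq_appLE]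
    refine ⟨fun ha => Ideal.mem_map_of_mem _ ha, fun ha => ?_⟩
    have : a ∈ (Q.asIdeal.map (i.app U).hom).comap (i.app U).hom := ha
    rwa [Ideal.comap_map_of_surjective _ hs, ← RingHom.ker_eq_comap_bot, sup_eq_left.2 hQ] at this
  rw [h1]
  exact genAt_of_atN hP hn hU hcl hz

theorem atN_of_baseChange (hP : Good Φ) {X Y X' Y' : Scheme.{u}} (i : Y ⟶ X) [IsImmersion i] (g : X' ⟶ X) [Flat g]
    [Surjective g] [QuasiCompact g] (i' : Y' ⟶ X') (g' : Y' ⟶ Y) (hsq : IsPullback g' i' i g)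
    (hi' : ∀ y', ∃ n, AtN Φ n i' y') (y : Y) : ∃ n, AtN Φ n i y := by
  obtain ⟨⟨U, hU⟩, hyU, -, hcl⟩ := exists_closed_chart i y (O := ⊤) trivial
  haveI : CompactSpace (g ⁻¹ᵁ U).toScheme :=
    isCompact_iff_compactSpace.1 (g.isCompact_preimage hU.isCompact)
  obtain ⟨W, p, hps, hp, hWaff⟩ :=
    (g ⁻¹ᵁ U).toScheme.exists_hom_isAffine_of_isZariskiLocalAtSource @IsLocalIso
  haveI := hps
  haveI := hWaff
  haveI : Flat p := IsLocalIso.le_of_isZariskiLocalAtSource @Flat _ _ p hp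
  let q : W ⟶ X' := p ≫ (g ⁻¹ᵁ U).ι
  let Y'' := pullback i' q
  have hbig : IsPullback (pullback.fst i' q ≫ g') (pullback.snd i' q) i (q ≫ g) :=
    (IsPullback.of_hasPullback i' q).paste_horiz hsq
  have hk : ∀ z, ∃ n, AtN Φ n (pullback.snd i' q) z := fun z => by
    obtain ⟨n, hn⟩ := hi' (pullback.fst i' q z)
    exact ⟨n, atN_baseChange hP i' q _ _ (IsPullback.of_hasPullback i' q) z hn⟩
  have htop : IsAffineOpen (⊤ : W.Opens) := isAffineOpen_top W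
  have hle : (⊤ : W.Opens) ≤ (q ≫ g) ⁻¹ᵁ U := fun w _ => (p w).2
  obtain ⟨hcl', hker⟩ := ker_baseChange i (q ≫ g) (pullback.snd i' q) _ hbig hU hcl htop hle
  have hsurj : ∀ x ∈ U, ∃ w ∈ (⊤ : W.Opens), (q ≫ g) w = x := by
    intro x hx
    obtain ⟨x', rfl⟩ := g.surjective x
    obtain ⟨w, hw⟩ := p.surjective ⟨x', hx⟩
    exact ⟨w, trivial, congrArg (fun v : (g ⁻¹ᵁ U).toScheme => g v.1) hw⟩
  have hff := faithfullyFlat_appLE (q ≫ g) hU htop hle hsurj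
  algebraize [((q ≫ g).appLE U ⊤ hle).hom]
  haveI : Module.FaithfullyFlat Γ(X, U) Γ(W, ⊤) := RingHom.faithfullyFlat_algebraMap_iff.1 hff
  obtain ⟨n, hn⟩ := Descent.exists_genLoc hP (A := Γ(X, U)) (B := Γ(W, ⊤)) (I := RingHom.ker (i.app U).hom)
    (fun Q hQ => by
      have := exists_genLoc_of_chart hP _ hk htop hcl' Q (hker.le.trans hQ)
      rwa [hker] at this) (hU.primeIdealOf ⟨i y, hyU⟩) (by
      intro a ha
      obtain ⟨hW, -⟩ := isAffine_preimage i hU hcl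
      rw [← mem_prime_app_iff i hU hW le_rfl y hyU a, ← Scheme.Hom.app_eq_appLE, RingHom.mem_ker.1 ha]
      exact zero_mem _)
  exact ⟨n, atN_of_genAt hP hU hcl hyU hn⟩

end Groth.Agent.Lib.KindDesc.Imm
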