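import Groth.Agent.H26.QuasiOps
import Groth.Agent.Lib.Synt92.CubeComp
import Mathlib.RingTheory.Flat.EquationalCriterion
import Mathlib.RingTheory.RingHom.Flat
import Mathlib.RingTheory.Flat.FaithfullyFlat.Algebra

/-! Properties of sequences that descend along faithfully flat maps: `H₁`-regularity and quasi-regularity. -/

set_option autoImplicit false

universe u

open MvPolynomial TensorProduct CAlgX
open Groth.Agent.H26 Triv H1Quasi
open Groth.Agent.Lib.Synt92.CubeComp

namespace Groth.Agent.Lib.KindDesc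

/-- A property of finite sequences of ring elements. -/
abbrev Pred : Type (u + 1) := ∀ (A : Type u) [CommRing A] (n : ℕ), (Fin n → A) → Prop

/-- What the descent arguments use of a property of sequences. -/
structure Good (P : Pred.{u}) : Prop where
  flat : ∀ {A B : Type u} [CommRing A] [CommRing B] {n : ℕ} (φ : A →+* B), φ.Flat →
    ∀ {f : Fin n → A}, P A n f → P B n (φ ∘ f)
  rel : ∀ {A : Type u} [CommRing A] {n : ℕ} {f : Fin n → A}, P A n f → ∀ {c : Fin n → A},
    ∑ i, c i * f i = 0 → ∀ i, c i ∈ Ideal.span (Set.range f)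
  top : ∀ {A : Type u} [CommRing A] {n : ℕ} {f : Fin n → A}, Ideal.span (Set.range f) = ⊤ → P A n f
  card_eq : ∀ {A : Type u} [CommRing A] {n : ℕ} {f g : Fin n → A}, P A n g →
    Ideal.span (Set.range f) = Ideal.span (Set.range g) → P A n f
  localP : ∀ {A : Type u} [CommRing A] {n : ℕ} {f : Fin n → A},
    (∀ (p : Ideal A) [p.IsPrime], P (Localization.AtPrime p) n (algebraMap A (Localization.AtPrime p) ∘ f)) →
    P A n f
  descend : ∀ {A S T : Type u} [CommRing A] [CommRing S] [CommRing T] [Algebra A S] [Algebra A T]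
    [Module.FaithfullyFlat A T] (π : S →ₐ[A] T) {e d : ℕ} (a : Fin e → A) (b : Fin d → S),
    (∀ i, π (b i) = 0) → P S (d + e) (app (algebraMap A S ∘ a) b) → P A e a

theorem exists_index {Q : Type u} [CommRing Q] {n m : ℕ} (g : Fin m → Q) (f : Fin n → Q) :
    ∃ ι : Fin m → Fin (n + m), ι.Injective ∧ (∀ j, app g f (ι j) = g j) ∧
      ∀ k, k ∉ Set.range ι → app g f k ∈ Set.range f := by
  have key : ∀ k : Fin (n + m), app g f k =
      (List.ofFn g ++ List.ofFn f)[(k : ℕ)]'(by simp; omega) := fun k => by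
    simp only [← ofFn_app, List.getElem_ofFn]
  refine ⟨fun j => ⟨j, by omega⟩, fun j k h => Fin.ext (congrArg Fin.val h :), fun j => ?_, fun k hk => ?_⟩
  · rw [key, List.getElem_append_left (by simp)]
    simp
  · have hk' : ¬ (k : ℕ) < m := fun h => hk ⟨⟨k, h⟩, rfl⟩
    refine ⟨⟨k - m, by omega⟩, ?_⟩
    rw [key, List.getElem_append_right (by simpa using hk')]
    simp

theorem mem_of_span_image {A T : Type u} [CommRing A] [CommRing T] [Algebra A T] (M : Submonoid A)
    [IsLocalization M T] {n : ℕ} (N : Submodule A (Fin n → A)) (c : Fin n → A)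
    (h : (algebraMap A T ∘ c : Fin n → T) ∈
      Submodule.span T ((fun v : Fin n → A => algebraMap A T ∘ v) '' (N : Set (Fin n → A)))) :
    ∃ s ∈ M, s • c ∈ N := by
  classical
  have key : ∀ x ∈ Submodule.span T ((fun v : Fin n → A => algebraMap A T ∘ v) '' (N : Set (Fin n → A))),
      ∃ s : M, ∃ v ∈ N, algebraMap A T s • x = algebraMap A T ∘ v := by
    intro x hx
    induction hx using Submodule.span_induction with
    | mem x hx =>
      obtain ⟨v, hv, rfl⟩ := hx
      exact ⟨1, v, hv, by simp⟩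
    | zero => exact ⟨1, 0, zero_mem _, by ext; simp⟩
    | add x y _ _ hx hy =>
      obtain ⟨s, v, hv, hs⟩ := hx
      obtain ⟨t, w, hw, ht⟩ := hy
      refine ⟨s * t, (t : A) • v + (s : A) • w, add_mem (N.smul_mem _ hv) (N.smul_mem _ hw), funext fun i => ?_⟩
      have h1 := congrFun hs i
      have h2 := congrFun ht i
      simp only [Pi.smul_apply, smul_eq_mul, Function.comp_apply] at h1 h2
      simp only [Pi.smul_apply, smul_eq_mul, Function.comp_apply, Pi.add_apply, map_add, map_mul,
        Submonoid.coe_mul, ← h1, ← h2]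
      ring
    | smul r x _ hx =>
      obtain ⟨s, v, hv, hs⟩ := hx
      obtain ⟨⟨a, t⟩, hat⟩ := IsLocalization.surj M r
      refine ⟨t * s, a • v, N.smul_mem _ hv, funext fun i => ?_⟩
      have h1 := congrFun hs i
      simp only [Pi.smul_apply, smul_eq_mul, Function.comp_apply] at h1 hat
      simp only [Pi.smul_apply, smul_eq_mul, Function.comp_apply, map_mul, Submonoid.coe_mul, ← h1, ← hat]
      ring
  obtain ⟨s, v, hv, hs⟩ := key _ h
  have hc : ∀ i, ∃ t : M, (t : A) * (s * c i) = t * v i := fun i =>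
    IsLocalization.exists_of_eq (S := T) (by
      have := congrFun hs i
      simpa using this)
  choose t ht using hc
  refine ⟨(∏ i, (t i : A)) * s, M.mul_mem (Submonoid.prod_mem _ fun i _ => (t i).2) s.2, ?_⟩
  rw [show ((∏ i, (t i : A)) * s) • c = (∏ i, (t i : A)) • v from funext fun i => ?_]
  · exact N.smul_mem _ hv
  · simp only [Pi.smul_apply, smul_eq_mul]
    rw [← Finset.prod_erase_mul Finset.univ (fun i => (t i : A)) (Finset.mem_univ i), mul_assoc, mul_assoc, mul_assoc, ht i]

theorem mem_of_span_image_faithfullyFlat {A T : Type u} [CommRing A] [CommRing T] [Algebra A T]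
    [Module.FaithfullyFlat A T] {n : ℕ} (N : Submodule A (Fin n → A)) (c : Fin n → A)
    (h : (algebraMap A T ∘ c : Fin n → T) ∈
      Submodule.span T ((fun v : Fin n → A => algebraMap A T ∘ v) '' (N : Set (Fin n → A)))) :
    c ∈ N := by
  classical
  let E : T ⊗[A] (Fin n → A) ≃ₗ[T] (Fin n → T) := TensorProduct.piScalarRight A T T (Fin n)
  have hE : ∀ v : Fin n → A, E ((1 : T) ⊗ₜ v) = algebraMap A T ∘ v := fun v => funext fun i => by
    simp [E, Algebra.algebraMap_eq_smul_one]
  have h' : (1 : T) ⊗ₜ[A] c ∈ Submodule.span T ((fun v => (1 : T) ⊗ₜ[A] v) '' (N : Set (Fin n → A))) := by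
    have h1 := Submodule.mem_map_of_mem (f := E.symm.toLinearMap) h
    rw [Submodule.map_span, Set.image_image, ← hE c] at h1
    simpa [← hE] using h1
  have h0 : N.mkQ.baseChange T ((1 : T) ⊗ₜ[A] c) = 0 := by
    refine (Submodule.span_le (p := LinearMap.ker (N.mkQ.baseChange T))).2 ?_ h'
    rintro _ ⟨v, hv, rfl⟩
    simp [(Submodule.Quotient.mk_eq_zero N).2 hv]
  rw [LinearMap.baseChange_tmul] at h0
  have h2 : N.mkQ c = 0 := Module.FaithfullyFlat.tensorProduct_mk_injective (A := A) (B := T) _ (by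
    simpa using h0)
  exact (Submodule.Quotient.mk_eq_zero N).1 h2

section H1

/-- `H₁`-regularity as a property of sequences. -/
def H1 : Pred.{u} := fun A _ _ f => CAlgX.IsH1Regular f

variable {A : Type u} [CommRing A] {n : ℕ}

theorem isTriv_map_ring {B : Type u} [CommRing B] (φ : A →+* B) {f c : Fin n → A}
    (h : IsTriv f c) : IsTriv (φ ∘ f) (φ ∘ c) := by
  obtain ⟨a, ha⟩ := h
  exact ⟨fun i j => φ (a i j), fun i => by simp [ha i, map_sum]⟩

theorem mem_span_triv_image {T : Type u} [CommRing T] [Algebra A T] (f c : Fin n → A) (v : Fin n → Fin n → T)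
    (h : ∀ i, algebraMap A T (c i) = ∑ j, algebraMap A T (f j) * (v i j - v j i)) :
    (algebraMap A T ∘ c : Fin n → T) ∈
      Submodule.span T ((fun w : Fin n → A => algebraMap A T ∘ w) '' (triv (M := A) f : Set (Fin n → A))) := by
  classical
  rw [show (algebraMap A T ∘ c : Fin n → T) =
      ∑ i, ∑ j, v i j • (algebraMap A T ∘ (Pi.single i (f j) - Pi.single j (f i))) from funext fun k => by
    rw [Function.comp_apply, h k]
    simp only [Finset.sum_apply, Pi.smul_apply, smul_eq_mul, Function.comp_apply, Pi.sub_apply, map_sub,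
      mul_sub, Finset.sum_sub_distrib, Pi.single_apply, apply_ite (algebraMap A T), map_zero, mul_ite, mul_zero,
      Finset.sum_ite_irrel, Finset.sum_ite_eq, Finset.sum_const_zero, Finset.mem_univ, if_true]
    simp [mul_comm]]
  refine Submodule.sum_mem _ fun i _ => Submodule.sum_mem _ fun j _ => Submodule.smul_mem _ _
    (Submodule.subset_span ⟨_, ?_, rfl⟩)
  exact (mem_span_iff_isTriv f _).1 (Submodule.subset_span ⟨i, j, rfl⟩)

theorem h1_flat {B : Type u} [CommRing B] (φ : A →+* B) (hφ : φ.Flat) {f : Fin n → A}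
    (hf : IsH1Regular f) : IsH1Regular (φ ∘ f) := by
  letI := φ.toAlgebra
  haveI : Module.Flat A B := hφ
  rw [isH1Regular_iff] at hf ⊢
  intro c hc
  obtain ⟨k, a, y, hy, ha⟩ := Module.Flat.isTrivialRelation_of_sum_smul_eq_zero (R := A) (M := B)
    (f := f) (x := c) (by
      rw [← hc]
      refine Finset.sum_congr rfl fun i _ => ?_
      rw [Algebra.smul_def, mul_comm]
      rfl)
  rw [show c = ∑ j, y j • (φ ∘ fun i => a i j) from funext fun i => by
    simp only [hy i, Finset.sum_apply, Pi.smul_apply, smul_eq_mul, Function.comp_apply, Algebra.smul_def]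
    exact Finset.sum_congr rfl fun j _ => mul_comm _ _]
  refine (triv (M := B) (φ ∘ f)).sum_mem fun j _ => (triv (M := B) (φ ∘ f)).smul_mem _ ?_
  exact isTriv_map_ring φ (hf _ (by rw [← ha j]; exact Finset.sum_congr rfl fun i _ => mul_comm _ _))

theorem h1_top {f : Fin n → A} (h : Ideal.span (Set.range f) = ⊤) : IsH1Regular f := by
  rw [isH1Regular_iff]
  intro c hc
  obtain ⟨r, hr⟩ := Ideal.mem_span_range_iff_exists_fun.1 (h.ge (Submodule.mem_top : (1 : A) ∈ ⊤))
  refine ⟨fun i j => c i * r j, fun i => ?_⟩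
  simp only [smul_eq_mul, mul_sub, Finset.sum_sub_distrib]
  have h1 : ∑ j, f j * (c i * r j) = c i * ∑ j, r j * f j := by
    rw [Finset.mul_sum]; exact Finset.sum_congr rfl fun j _ => by ring
  have h2 : ∑ j, f j * (c j * r i) = r i * ∑ j, c j * f j := by
    rw [Finset.mul_sum]; exact Finset.sum_congr rfl fun j _ => by ring
  rw [h1, h2, hr, hc, mul_one, mul_zero, sub_zero]

theorem span_mul_triv {f : Fin n → A} {c : Fin n → A} (hc : ∑ i, c i * f i = 0) {x : A}
    (hx : x ∈ Ideal.span (Set.range f)) : IsTriv f (x • c) := by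
  obtain ⟨r, rfl⟩ := Ideal.mem_span_range_iff_exists_fun.1 hx
  refine ⟨fun i j => c i * r j, fun i => ?_⟩
  simp only [smul_eq_mul, mul_sub, Finset.sum_sub_distrib, Pi.smul_apply]
  have h1 : ∑ j, f j * (c i * r j) = c i * ∑ j, r j * f j := by
    rw [Finset.mul_sum]; exact Finset.sum_congr rfl fun j _ => by ring
  have h2 : ∑ j, f j * (c j * r i) = r i * ∑ j, c j * f j := by
    rw [Finset.mul_sum]; exact Finset.sum_congr rfl fun j _ => by ring
  rw [h1, h2, hc, mul_zero, sub_zero, mul_comm]

theorem h1_rel {f : Fin n → A} (hf : IsH1Regular f) {c : Fin n → A} (hc : ∑ i, c i * f i = 0) (i : Fin n) :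
    c i ∈ Ideal.span (Set.range f) := by
  obtain ⟨a, ha⟩ := (isH1Regular_iff f).1 hf c hc
  rw [ha i]
  exact Ideal.sum_mem _ fun j _ => Ideal.mul_mem_right _ _ (Ideal.subset_span ⟨j, rfl⟩)

theorem isTriv_mulVec {f : Fin n → A} (K : Matrix (Fin n) (Fin n) A) {v : Fin n → A}
    (h : IsTriv (K.mulVec f) v) : IsTriv f fun l => ∑ i, v i * K i l := by
  obtain ⟨d, hd⟩ := h
  refine ⟨fun l k => ∑ i, ∑ j, d i j * K j k * K i l, fun l => ?_⟩
  have e1 : ∀ i, v i * K i l = ∑ j, ∑ k, f k * (d i j * K j k * K i l) - ∑ j, ∑ k, f k * (d j i * K j k * K i l) := fun i => by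
    rw [hd i, Finset.sum_mul, ← Finset.sum_sub_distrib]
    refine Finset.sum_congr rfl fun j _ => ?_
    simp only [smul_eq_mul, Matrix.mulVec, dotProduct, Finset.sum_mul, ← Finset.sum_sub_distrib]
    exact Finset.sum_congr rfl fun k _ => by ring
  simp only [e1, smul_eq_mul, mul_sub, Finset.sum_sub_distrib, Finset.mul_sum]
  congr 1
  · rw [Finset.sum_comm_cycle]
  · rw [Finset.sum_comm_cycle]
    refine Finset.sum_congr rfl fun k _ => ?_
    rw [Finset.sum_comm]
    refine Finset.sum_congr rfl fun i _ => Finset.sum_congr rfl fun j _ => ?_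
    ring

theorem h1_card_eq {f g : Fin n → A} (hg : IsH1Regular g)
    (h : Ideal.span (Set.range f) = Ideal.span (Set.range g)) : IsH1Regular f := by
  classical
  choose M hM using fun i => Ideal.mem_span_range_iff_exists_fun.1
    (h.le (Ideal.subset_span ⟨i, rfl⟩) : f i ∈ Ideal.span (Set.range g))
  choose D hD using fun i => Ideal.mem_span_range_iff_exists_fun.1
    (h.ge (Ideal.subset_span ⟨i, rfl⟩) : g i ∈ Ideal.span (Set.range f))
  let C : Matrix (Fin n) (Fin n) A := M
  let E : Matrix (Fin n) (Fin n) A := D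
  set J := Ideal.span (Set.range g) with hJ
  have hEC : E.map (Ideal.Quotient.mk J) * C.map (Ideal.Quotient.mk J) = 1 := by
    rw [← Matrix.map_mul]
    ext i k
    rw [Matrix.map_apply, Matrix.one_apply]
    have hrel : ∑ l, ((E * C) i l - if i = l then 1 else 0) * g l = 0 := by
      simp only [sub_mul, Finset.sum_sub_distrib, ite_mul, one_mul, zero_mul, Finset.sum_ite_eq,
        Finset.mem_univ, if_true, Matrix.mul_apply, Finset.sum_mul, mul_assoc]
      rw [Finset.sum_comm]
      simp only [← Finset.mul_sum, C, E, hM, hD, sub_self]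
    have := h1_rel hg (c := fun l => (E * C) i l - if i = l then 1 else 0) hrel k
    rw [← hJ, ← Ideal.Quotient.eq_zero_iff_mem, map_sub, sub_eq_zero] at this
    rw [this]
    split <;> simp
  have hu : IsUnit (Ideal.Quotient.mk J C.det) := by
    rw [RingHom.map_det]
    exact Matrix.isUnit_det_of_left_inverse hEC
  obtain ⟨e, he⟩ := Ideal.Quotient.mk_surjective hu.unit⁻¹.1
  have hδ : 1 - (e * e) * (C.det * C.det) ∈ J := by
    rw [← Ideal.Quotient.eq, map_one, map_mul, map_mul, map_mul, he, mul_mul_mul_comm,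
      IsUnit.val_inv_mul, one_mul]
  rw [isH1Regular_iff]
  intro c hc
  have h1 : IsTriv g fun l => ∑ i, c i * C i l := by
    refine (isH1Regular_iff g).1 hg _ ?_
    rw [← hc]
    simp only [Finset.sum_mul, mul_assoc]
    rw [Finset.sum_comm]
    exact Finset.sum_congr rfl fun i _ => by rw [← Finset.mul_sum, ← hM i]
  have hadj : C.adjugate.mulVec f = C.det • g := by
    rw [show f = C.mulVec g from funext fun i => (hM i).symm, Matrix.mulVec_mulVec, Matrix.adjugate_mul,
      Matrix.smul_mulVec, Matrix.one_mulVec]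
  have h2 : IsTriv (C.det • g) (C.det • fun l => ∑ i, c i * C i l) := by
    obtain ⟨a, ha⟩ := h1
    exact ⟨a, fun i => by simp [ha i, Finset.mul_sum, mul_assoc]⟩
  rw [← hadj] at h2
  have h3 : IsTriv f ((C.det * C.det) • c) := by
    convert isTriv_mulVec _ h2 using 1
    funext l
    have h4 := fun i => congrFun (congrFun (Matrix.mul_adjugate C) i) l
    simp only [Pi.smul_apply, smul_eq_mul, mul_assoc, ← Finset.mul_sum, Finset.sum_mul]
    rw [Finset.sum_comm]
    simp only [← Finset.mul_sum, ← Matrix.mul_apply, h4, Matrix.smul_apply, Matrix.one_apply, smul_eq_mul,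
      mul_ite, mul_one, mul_zero, Finset.sum_ite_eq', Finset.mem_univ, if_true]
    ring
  have h5 : IsTriv f ((1 - (e * e) * (C.det * C.det)) • c) := span_mul_triv hc (h.ge hδ)
  have h6 := (triv (M := A) f).add_mem ((triv (M := A) f).smul_mem (e * e) h3) h5
  rwa [← mul_smul, ← add_smul, add_sub_cancel, one_smul] at h6

theorem h1_local {f : Fin n → A}
    (h : ∀ (p : Ideal A) [p.IsPrime], IsH1Regular (algebraMap A (Localization.AtPrime p) ∘ f)) :
    IsH1Regular f := by
  classical
  rw [isH1Regular_iff]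
  intro c hc
  let 𝔞 : Ideal A := (triv (M := A) f).comap (LinearMap.toSpanSingleton A _ c)
  by_cases h𝔞 : 𝔞 = ⊤
  · have := (Ideal.eq_top_iff_one 𝔞).1 h𝔞
    rw [Submodule.mem_comap, LinearMap.toSpanSingleton_apply, one_smul] at this
    exact this
  obtain ⟨p, hp, hle⟩ := Ideal.exists_le_maximal 𝔞 h𝔞
  haveI := hp.isPrime
  let φ := algebraMap A (Localization.AtPrime p)
  obtain ⟨a, ha⟩ := (isH1Regular_iff _).1 (h p) (φ ∘ c) (by
    simpa [map_sum] using congrArg φ hc)
  obtain ⟨s, hs, hsc⟩ := mem_of_span_image (T := Localization.AtPrime p) p.primeCompl (triv (M := A) f) c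
    (mem_span_triv_image f c a fun i => ha i)
  exact absurd (hle (show s ∈ 𝔞 from hsc)) hs

theorem h1_descend {S T : Type u} [CommRing S] [CommRing T] [Algebra A S] [Algebra A T]
    [Module.FaithfullyFlat A T] (π : S →ₐ[A] T) {e d : ℕ} (a : Fin e → A) (b : Fin d → S)
    (hb : ∀ i, π (b i) = 0) (h : IsH1Regular (app (algebraMap A S ∘ a) b)) : IsH1Regular a := by
  classical
  obtain ⟨ι, hι, hι1, hι2⟩ := exists_index (algebraMap A S ∘ a) b
  rw [isH1Regular_iff]
  intro c hc
  let c' : Fin (d + e) → S := Function.extend ι (algebraMap A S ∘ c) 0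
  have hc'0 : ∑ k, c' k * app (algebraMap A S ∘ a) b k = 0 := by
    rw [← Fintype.sum_of_injective ι hι (fun j => algebraMap A S (c j * a j)) _ (fun k hk => ?_) (fun j => ?_)]
    · rw [← map_sum, hc, map_zero]
    · simp only [c', Function.extend_apply' _ _ _ (by simpa using hk), Pi.zero_apply, zero_mul]
    · simp only [c', hι.extend_apply, hι1, Function.comp_apply, map_mul]
  obtain ⟨w, hw⟩ := (isH1Regular_iff _).1 h c' hc'0
  refine mem_of_span_image_faithfullyFlat (T := T) (triv (M := A) a) c ?_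
  let ψ := algebraMap A T
  let v : Fin e → Fin e → T := fun i j => π (w (ι i) (ι j))
  have hv : ∀ i, ψ (c i) = ∑ j, ψ (a j) * (v i j - v j i) := fun i => by
    have h1 := congrArg π (hw (ι i))
    simp only [c', hι.extend_apply, Function.comp_apply, AlgHom.commutes, map_sum, smul_eq_mul, map_mul] at h1
    rw [h1]
    symm
    refine Fintype.sum_of_injective ι hι _ _ (fun k hk => ?_) fun j => ?_
    · obtain ⟨l, hl⟩ := hι2 k hk
      rw [← hl, hb l, zero_mul]
    · simp [hι1, v, ψ]
  exact mem_span_triv_image a c v hv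

theorem good_h1 : Good H1.{u} where
  flat φ hφ _ hf := h1_flat φ hφ hf
  rel hf _ hc i := h1_rel hf hc i
  top h := h1_top h
  card_eq hg h := h1_card_eq hg h
  localP h := h1_local h
  descend π _ _ a b hb h := h1_descend π a b hb h

end H1

section Quasi

open Groth.Agent.Lib.Regular45.QuasiReg (eval_mem_mul_pow exists_coeff_mem of_eval_eq_zero)

/-- Quasi-regularity as a property of sequences. -/
def Quasi : Pred.{u} := fun A _ _ f => CAlgX.IsQuasiRegular f

variable {A : Type u} [CommRing A] {n : ℕ}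

theorem quasi_of_eval {f : Fin n → A} (h : ∀ (k : ℕ) (P : MvPolynomial (Fin n) A), P.IsHomogeneous k →
    eval f P = 0 → ∀ d, P.coeff d ∈ Ideal.span (Set.range f)) : IsQuasiRegular f :=
  fun k _ hP he d => of_eval_eq_zero f (h k) hP he d

theorem quasi_eval {f : Fin n → A} (hf : IsQuasiRegular f) {k : ℕ} {P : MvPolynomial (Fin n) A}
    (hP : P.IsHomogeneous k) (he : eval f P = 0) (d : Fin n →₀ ℕ) :
    P.coeff d ∈ Ideal.span (Set.range f) :=
  hf k P hP (by rw [he]; exact zero_mem _) d

theorem quasi_flat {B : Type u} [CommRing B] (φ : A →+* B) (hφ : φ.Flat) {f : Fin n → A}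
    (hf : IsQuasiRegular f) : IsQuasiRegular (φ ∘ f) := by
  classical
  letI := φ.toAlgebra
  haveI : Module.Flat A B := hφ
  refine quasi_of_eval fun k P hP he d => ?_
  let m : (Fin n →₀ ℕ) → A := fun e => ∏ i, f i ^ e i
  have hsum : ∑ e : P.support, m e.1 • P.coeff e.1 = 0 := by
    rw [← he, eval_eq']
    refine Eq.trans ?_ (Finset.sum_coe_sort P.support _)
    refine Finset.sum_congr rfl fun e _ => ?_
    simp only [m, Algebra.smul_def, map_prod, map_pow, Function.comp_apply]
    exact mul_comm _ _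
  obtain ⟨r, a, y, hy, ha⟩ := Module.Flat.isTrivialRelation_of_sum_smul_eq_zero (R := A) (M := B)
    (f := fun e : P.support => m e.1) (x := fun e => P.coeff e.1) hsum
  have hP' : ∀ j, ∀ e : P.support, a e j ∈ Ideal.span (Set.range f) := fun j e => by
    let R : MvPolynomial (Fin n) A := ∑ e : P.support, monomial e.1 (a e j)
    have hR : R.IsHomogeneous k := IsHomogeneous.sum _ _ _ fun e _ => isHomogeneous_monomial _ (by
      rw [Finsupp.degree_eq_weight_one]; exact hP (mem_support_iff.mp e.2))
    have hR0 : eval f R = 0 := by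
      rw [map_sum, ← ha j]
      refine Finset.sum_congr rfl fun e _ => ?_
      rw [eval_monomial, Finsupp.prod_fintype _ _ (fun _ => pow_zero _), mul_comm]
    have := quasi_eval hf hR hR0 e.1
    rwa [coeff_sum, Finset.sum_eq_single e (fun e' _ he' => by
      rw [coeff_monomial, if_neg fun h => he' (Subtype.ext h)]) (by simp), coeff_monomial, if_pos rfl] at this
  rw [Set.range_comp, ← Ideal.map_span]
  by_cases hd : d ∈ P.support
  · rw [show P.coeff d = _ from hy ⟨d, hd⟩]
    refine Ideal.sum_mem _ fun j _ => ?_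
    rw [Algebra.smul_def]
    exact Ideal.mul_mem_right _ _ (Ideal.mem_map_of_mem _ (hP' j ⟨d, hd⟩))
  · rw [notMem_support_iff.mp hd]
    exact zero_mem _

theorem quasi_rel {f : Fin n → A} (hf : IsQuasiRegular f) {c : Fin n → A} (hc : ∑ i, c i * f i = 0)
    (i : Fin n) : c i ∈ Ideal.span (Set.range f) := by
  classical
  have hhom : (∑ j, MvPolynomial.C (c j) * X j : MvPolynomial (Fin n) A).IsHomogeneous 1 :=
    IsHomogeneous.sum _ _ _ fun j _ => isHomogeneous_C_mul_X _ j
  have := quasi_eval hf hhom (by simpa using hc) (Finsupp.single i 1)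
  simpa [coeff_sum, coeff_C_mul, coeff_X', Finsupp.single_left_inj one_ne_zero] using this

theorem quasi_local {f : Fin n → A}
    (h : ∀ (p : Ideal A) [p.IsPrime], IsQuasiRegular (algebraMap A (Localization.AtPrime p) ∘ f)) :
    IsQuasiRegular f := by
  refine quasi_of_eval fun k P hP he d => Submodule.mem_of_localization_maximal
    (fun (p : Ideal A) (_ : p.IsMaximal) => Localization.AtPrime p)
    (fun (p : Ideal A) (_ : p.IsMaximal) => Algebra.linearMap A (Localization.AtPrime p)) _ _ fun p hp => ?_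
  rw [Ideal.localized₀_eq_restrictScalars_map]
  change algebraMap A (Localization.AtPrime p) (P.coeff d) ∈ _
  haveI := hp.isPrime
  have := quasi_eval (h p) (hP.map (algebraMap A (Localization.AtPrime p))) (by
    rw [eval_map, ← eval₂_comp, he, map_zero]) d
  rw [coeff_map, Set.range_comp, ← Ideal.map_span] at this
  exact this

theorem quasi_descend {S T : Type u} [CommRing S] [CommRing T] [Algebra A S] [Algebra A T]
    [Module.FaithfullyFlat A T] (π : S →ₐ[A] T) {e d : ℕ} (a : Fin e → A) (b : Fin d → S)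
    (hb : ∀ i, π (b i) = 0) (h : IsQuasiRegular (app (algebraMap A S ∘ a) b)) : IsQuasiRegular a := by
  obtain ⟨ι, hι, hι1, -⟩ := exists_index (algebraMap A S ∘ a) b
  refine quasi_of_eval fun k P hP he m => ?_
  have he' : eval (app (algebraMap A S ∘ a) b) (rename ι (MvPolynomial.map (algebraMap A S) P)) = 0 := by
    rw [eval_rename, show app (algebraMap A S ∘ a) b ∘ ι = algebraMap A S ∘ a from funext hι1, eval_map,
      ← eval₂_comp, he, map_zero]
  have h1 := quasi_eval h ((hP.map _).rename_isHomogeneous (f := ι)) he' (Finsupp.mapDomain ι m)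
  rw [coeff_rename_mapDomain _ hι, coeff_map] at h1
  have h2 : algebraMap A T (P.coeff m) ∈ (Ideal.span (Set.range a)).map (algebraMap A T) := by
    have h3 := Ideal.mem_map_of_mem π h1
    rw [AlgHom.commutes] at h3
    refine (show Ideal.map π (Ideal.span (Set.range (app (algebraMap A S ∘ a) b))) ≤ _ from ?_) h3
    rw [Ideal.map_span, Ideal.span_le, range_app, Set.image_union]
    rintro x (⟨_, ⟨i, rfl⟩, rfl⟩ | ⟨_, ⟨i, rfl⟩, rfl⟩)
    · rw [Function.comp_apply, AlgHom.commutes]
      exact Ideal.mem_map_of_mem _ (Ideal.subset_span ⟨i, rfl⟩)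
    · rw [hb i]
      exact zero_mem _
  rwa [← Ideal.mem_comap, Ideal.comap_map_eq_self_of_faithfullyFlat] at h2

theorem good_quasi : Good Quasi.{u} where
  flat φ hφ _ hf := quasi_flat φ hφ hf
  rel hf _ hc i := quasi_rel hf hc i
  top h := fun _ _ _ _ _ => h ▸ Submodule.mem_top
  card_eq hg h := QuasiOps.span_eq _ _ hg h
  localP h := quasi_local h
  descend π _ _ a b hb h := quasi_descend π a b hb h

end Quasi

end Groth.Agent.Lib.KindDesc
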