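import Groth.Agent.Lib.KindDesc.Loc
import Groth.Agent.Lib.Synt92.KRSmooth

/-! Descent along smooth morphisms of ideals cut out by sequences with a descendable property. -/

set_option autoImplicit false

universe u

open IsLocalRing RingTheory.Sequence TensorProduct

namespace Groth.Agent.Lib.KindDesc.Smooth

open Groth.Agent.Lib.Synt92 Groth.Agent.Lib.KindDesc Groth.Agent.Lib.KindDesc.Loc
open Groth.Agent.Lib.Synt92.KRSmooth (flat_quotient exists_sub_mem mem_of_mem_map)

open Groth.Agent.Lib.Wiebe.Link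

open CubeComp

variable {Φ : Pred.{u}}

/-- An equation between generators in a local ring holds on a basic open. -/
theorem exists_spread (hP : Good Φ) {B : Type u} [CommRing B] (Q : Ideal B) [Q.IsPrime] {n : ℕ} (g₀ : B) (hg₀ : g₀ ∉ Q)
    (f F : Fin n → B) (hf : Φ (Localization.Away g₀) n (algebraMap B (Localization.Away g₀) ∘ f))
    (Cm : Matrix (Fin n) (Fin n) (Localization.AtPrime Q)) (hC : IsUnit Cm.det)
    (hF : algebraMap B (Localization.AtPrime Q) ∘ F = Cm.mulVec (algebraMap B (Localization.AtPrime Q) ∘ f)) :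
    ∃ h, h ∉ Q ∧ IsUnit (algebraMap B (Localization.Away h) g₀) ∧
      Φ (Localization.Away h) n (algebraMap B (Localization.Away h) ∘ F) ∧
      Ideal.span (Set.range (algebraMap B (Localization.Away h) ∘ F)) =
        Ideal.span (Set.range (algebraMap B (Localization.Away h) ∘ f)) := by
  classical
  let ι := algebraMap B (Localization.AtPrime Q)
  obtain ⟨s, hs⟩ := IsLocalization.exist_integer_multiples_of_finite Q.primeCompl
    (fun x : Fin n × Fin n => Cm x.1 x.2)
  choose D' hD' using hs
  let D : Matrix (Fin n) (Fin n) B := fun i j => D' (i, j)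
  have hD : ∀ i j, ι (D i j) = ι s.1 * Cm i j := fun i j => (hD' (i, j)).trans (Algebra.smul_def _ _)
  have he : ∀ i, ι (s.1 * F i) = ι (∑ j, D i j * f j) := fun i => by
    rw [map_mul, map_sum]
    simp only [map_mul, hD, mul_assoc]
    rw [← Finset.mul_sum]
    exact congrArg _ (congrFun hF i)
  choose t ht using fun i => IsLocalization.exists_of_eq (M := Q.primeCompl) (he i)
  have hdet : D.det ∉ Q := by
    refine (IsLocalization.AtPrime.isUnit_to_map_iff (Localization.AtPrime Q) Q D.det).1 ?_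
    change IsUnit (ι D.det)
    rw [RingHom.map_det, show ι.mapMatrix D = ι s.1 • Cm from Matrix.ext hD, Matrix.det_smul]
    exact ((IsLocalization.map_units _ s).pow _).mul hC
  refine ⟨g₀ * s.1 * (∏ i, (t i).1) * D.det, ?_, ?_⟩
  · exact Q.primeCompl.mul_mem (Q.primeCompl.mul_mem (Q.primeCompl.mul_mem hg₀ s.2)
      (Submonoid.prod_mem _ fun i _ => (t i).2)) hdet
  set h := g₀ * s.1 * (∏ i, (t i).1) * D.det
  let σ := algebraMap B (Localization.Away h)
  have hu : ∀ x, x ∣ h → IsUnit (σ x) := fun x hx =>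
    isUnit_of_dvd_unit (map_dvd σ hx) (IsLocalization.Away.algebraMap_isUnit h)
  have hug : IsUnit (σ g₀) := hu _ ((dvd_mul_right g₀ s.1).mul_right _ |>.mul_right _)
  have hus : IsUnit (σ s.1) := hu _ ((dvd_mul_left s.1 g₀).mul_right _ |>.mul_right _)
  refine ⟨hug, ?_⟩
  let φ : Localization.Away g₀ →+* Localization.Away h := IsLocalization.Away.lift g₀ hug
  have hφ : φ.comp (algebraMap B _) = σ := IsLocalization.Away.lift_comp _ _
  have hφf : φ.Flat := by
    letI := φ.toAlgebra
    haveI : IsScalarTower B (Localization.Away g₀) (Localization.Away h) :=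
      IsScalarTower.of_algebraMap_eq' hφ.symm
    exact (Module.flat_iff_of_isLocalization (Localization.Away g₀) (Submonoid.powers g₀)
      (M := Localization.Away h)).2 (IsLocalization.flat _ (Submonoid.powers h))
  have hfS : Φ (Localization.Away h) n (σ ∘ f) := by
    have := hP.flat φ hφf hf
    rwa [← Function.comp_assoc, ← RingHom.coe_comp, hφ] at this
  let Cu : Matrix (Fin n) (Fin n) (Localization.Away h) :=
    (↑(hus.unit⁻¹) : Localization.Away h) • σ.mapMatrix D
  have hCu : IsUnit Cu.det := by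
    rw [Matrix.det_smul, ← RingHom.map_det]
    exact (Units.isUnit _).pow _ |>.mul (hu _ (dvd_mul_left _ _))
  have hFe : σ ∘ F = Cu.mulVec (σ ∘ f) := funext fun i => by
    have h1 := congrArg σ (ht i)
    simp only [map_mul, map_sum] at h1
    have h2 := (hu _ ((Finset.dvd_prod_of_mem (fun i => (t i).1) (Finset.mem_univ i)).mul_left _ |>.mul_right _)).mul_left_cancel h1
    simp only [Cu]
    rw [Matrix.smul_mulVec, Pi.smul_apply, smul_eq_mul]
    change σ (F i) = _ * ∑ j, σ (D i j) * σ (f j)
    rw [← h2, ← mul_assoc, IsUnit.val_inv_mul, one_mul]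
  have hspan : Ideal.span (Set.range (σ ∘ F)) = Ideal.span (Set.range (σ ∘ f)) := by
    rw [hFe]
    exact span_mulVec Cu hCu _
  exact ⟨hP.card_eq hfS hspan, hspan⟩

/-- Completing an independent family of elements to generators by elements of a spanning set. -/
theorem exists_completion (hP : Good Φ) {R : Type u} [CommRing R] [IsLocalRing R] {r d : ℕ} (f : Fin r → R)
    (hf : Φ R r f)
    (hfm : ∀ i, f i ∈ IsLocalRing.maximalIdeal R) (T : Set R) (b : Fin d → R)
    (hT : ∀ x ∈ T, x ∈ Ideal.span (Set.range f)) (hb : ∀ i, b i ∈ Ideal.span (Set.range f))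
    (hspan : Ideal.span (Set.range f) ≤ Ideal.span (T ∪ Set.range b) ⊔
      IsLocalRing.maximalIdeal R * Ideal.span (Set.range f))
    (hind : ∀ c : Fin d → R, (∑ i, c i * b i) ∈ IsLocalRing.maximalIdeal R * Ideal.span (Set.range f) →
      ∀ i, c i ∈ IsLocalRing.maximalIdeal R) :
    ∃ (e : ℕ) (a : Fin e → R) (h : d + e = r) (C : Matrix (Fin (d + e)) (Fin (d + e)) R),
      (∀ i, a i ∈ T) ∧ IsUnit C.det ∧ app a b = C.mulVec (f ∘ Fin.cast h) := by
  classical
  let κ := IsLocalRing.ResidueField R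
  let res := IsLocalRing.residue R
  have hres : ∀ x, res x = 0 ↔ x ∈ IsLocalRing.maximalIdeal R := fun x => Ideal.Quotient.eq_zero_iff_mem
  have hfm' : Ideal.span (Set.range f) ≤ IsLocalRing.maximalIdeal R :=
    Ideal.span_le.2 (by rintro _ ⟨i, rfl⟩; exact hfm i)
  choose cT hcT using fun x : T => Ideal.mem_span_range_iff_exists_fun.1 (hT x x.2)
  choose cb hcb using fun i => Ideal.mem_span_range_iff_exists_fun.1 (hb i)
  have hrel : ∀ c c' : Fin r → R, ∑ i, c i * f i = ∑ i, c' i * f i → ∀ i, res (c i) = res (c' i) :=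
    fun c c' hc i => sub_eq_zero.1 (by
      rw [← map_sub, hres]
      refine hfm' (hP.rel hf (c := fun i => c i - c' i) ?_ i)
      simp [sub_mul, Finset.sum_sub_distrib, hc])
  have hmul : ∀ y ∈ IsLocalRing.maximalIdeal R * Ideal.span (Set.range f),
      ∃ c : Fin r → R, (∀ i, res (c i) = 0) ∧ ∑ i, c i * f i = y := by
    intro y hy
    refine Submodule.mul_induction_on hy (fun p hp x hx => ?_) ?_
    · obtain ⟨c, rfl⟩ := Ideal.mem_span_range_iff_exists_fun.1 hx
      exact ⟨fun i => p * c i, fun i => (hres _).2 (Ideal.mul_mem_right _ _ hp), by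
        rw [Finset.mul_sum]; exact Finset.sum_congr rfl fun i _ => mul_assoc _ _ _⟩
    · rintro _ _ ⟨c, hc, rfl⟩ ⟨c', hc', rfl⟩
      exact ⟨c + c', fun i => by simp [hc i, hc' i], by simp [add_mul, Finset.sum_add_distrib]⟩
  let v : Fin d ⊕ T → Fin r → κ := Sum.elim (fun i => res ∘ cb i) (fun x => res ∘ cT x)
  have hv1 : LinearIndependent κ fun i => res ∘ cb i := by
    rw [Fintype.linearIndependent_iff]
    intro l hl i
    choose c hc using fun i => IsLocalRing.residue_surjective (l i)
    rw [← hc i]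
    refine (hres _).2 (hind c ?_ i)
    have e : (∑ i, c i * b i) = ∑ j, (∑ i, c i * cb i j) * f j := by
      simp only [Finset.sum_mul, mul_assoc]
      rw [Finset.sum_comm]
      exact Finset.sum_congr rfl fun i _ => by rw [← Finset.mul_sum, hcb i]
    rw [e]
    refine Submodule.sum_mem _ fun j _ => Ideal.mul_mem_mul ((hres _).1 ?_) (Ideal.subset_span ⟨j, rfl⟩)
    have := congrFun hl j
    simpa [Finset.sum_apply, res, ← hc, map_sum] using this
  have hspanv : Submodule.span κ (Set.range v) = ⊤ := by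
    refine eq_top_iff.2 ?_
    rw [← (Pi.basisFun κ (Fin r)).span_eq, Submodule.span_le]
    rintro _ ⟨k, rfl⟩
    have hmem : ∀ y ∈ Ideal.span (T ∪ Set.range b), ∃ c : Fin r → R,
        (res ∘ c) ∈ Submodule.span κ (Set.range v) ∧ ∑ i, c i * f i = y := by
      intro y hy
      induction hy using Submodule.span_induction with
      | mem x hx =>
        rcases hx with hx | ⟨i, rfl⟩
        · exact ⟨cT ⟨x, hx⟩, Submodule.subset_span ⟨Sum.inr ⟨x, hx⟩, rfl⟩, hcT _⟩
        · exact ⟨cb i, Submodule.subset_span ⟨Sum.inl i, rfl⟩, hcb i⟩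
      | zero => exact ⟨0, by simp, by simp⟩
      | add x y _ _ hx hy =>
        obtain ⟨c, hc, rfl⟩ := hx
        obtain ⟨c', hc', rfl⟩ := hy
        refine ⟨c + c', ?_, by simp [add_mul, Finset.sum_add_distrib]⟩
        have : res ∘ (c + c') = res ∘ c + res ∘ c' := by funext i; simp
        rw [this]
        exact add_mem hc hc'
      | smul s x _ hx =>
        obtain ⟨c, hc, rfl⟩ := hx
        refine ⟨fun i => s * c i, ?_, by simp [Finset.mul_sum, mul_assoc]⟩
        have : res ∘ (fun i => s * c i) = res s • (res ∘ c) := by funext i; simp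
        rw [this]
        exact Submodule.smul_mem _ _ hc
    obtain ⟨y, hy, w, hw, hyw⟩ := Submodule.mem_sup.1 (hspan (Ideal.subset_span ⟨k, rfl⟩))
    obtain ⟨c, hc, rfl⟩ := hmem y hy
    obtain ⟨c', hc', rfl⟩ := hmul w hw
    have hk := hrel (Pi.single k 1) (c + c')
      (by simp [add_mul, Finset.sum_add_distrib, hyw, Pi.single_apply])
    have : (Pi.basisFun κ (Fin r) k) = res ∘ c := by
      funext i
      have h := hk i
      rw [Pi.basisFun_apply, Function.comp_apply]
      rw [Pi.add_apply, map_add, hc' i, add_zero] at h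
      rw [← h]
      by_cases hik : i = k
      · subst hik; simp
      · simp [Pi.single_eq_of_ne hik]
    rw [this]
    exact hc
  have hs0 : LinearIndepOn κ v (Set.range Sum.inl) := by
    rw [linearIndepOn_range_iff Sum.inl_injective]
    exact hv1
  obtain ⟨B, -, hsB, hBspan, hBind⟩ := exists_linearIndepOn_extension hs0 (Set.subset_univ _)
  let U : Set T := Sum.inr ⁻¹' B
  have hU : LinearIndependent κ fun x : Fin d ⊕ U => v (x.map id Subtype.val) :=
    hBind.comp (fun x : Fin d ⊕ U => (⟨x.map id Subtype.val, by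
      rcases x with i | x
      · exact hsB ⟨i, rfl⟩
      · exact x.2⟩ : B)) (by
      intro x y hxy
      have h := congrArg Subtype.val hxy
      rcases x with i | x <;> rcases y with j | y <;> simp_all [Subtype.ext_iff])
  have hUspan : Submodule.span κ (Set.range fun x : Fin d ⊕ U => v (x.map id Subtype.val)) = ⊤ := by
    refine eq_top_iff.2 (hspanv ▸ Submodule.span_le.2 ?_)
    rw [Set.image_univ] at hBspan
    refine hBspan.trans (Submodule.span_mono ?_)
    rintro _ ⟨x, hx, rfl⟩
    rcases x with i | x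
    · exact ⟨Sum.inl i, rfl⟩
    · exact ⟨Sum.inr ⟨x, hx⟩, rfl⟩
  haveI : Finite (Fin d ⊕ U) := hU.finite
  haveI : Finite U := Finite.sum_right (Fin d)
  obtain ⟨e, ⟨σ⟩⟩ := Finite.exists_equiv_fin U
  have hcard : d + e = r := by
    let bas := Module.Basis.mk hU hUspan.ge
    haveI := Fintype.ofFinite U
    have h1 := Module.finrank_eq_card_basis bas
    rw [Module.finrank_fintype_fun_eq_card, Fintype.card_fin, Fintype.card_sum, Fintype.card_fin,
      Fintype.card_congr σ, Fintype.card_fin] at h1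
    exact h1.symm
  subst hcard
  let a : Fin e → R := fun i => ((σ.symm i).1 : R)
  let C : Matrix (Fin (d + e)) (Fin (d + e)) R := app (fun i => cT (σ.symm i).1) cb
  have hC : app a b = C.mulVec f := by
    have h := map_app (fun c : Fin (d + e) → R => ∑ j, c j * f j) (fun i => cT (σ.symm i).1) cb
    have e1 : (fun c : Fin (d + e) → R => ∑ j, c j * f j) ∘ (fun i => cT (σ.symm i).1) = a :=
      funext fun i => hcT _
    have e2 : (fun c : Fin (d + e) → R => ∑ j, c j * f j) ∘ cb = b := funext fun i => hcb i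
    rw [e1, e2] at h
    rw [← h]
    rfl
  refine ⟨e, a, rfl, C, fun i => (σ.symm i).1.2, ?_, hC⟩
  -- a left inverse modulo the maximal ideal
  have hrows : Submodule.span κ (Set.range fun i => res ∘ C i) = ⊤ := by
    refine eq_top_iff.2 (hUspan ▸ Submodule.span_mono ?_)
    have hr : Set.range C = Set.range (fun i => cT (σ.symm i).1) ∪ Set.range cb := range_app _ _
    rintro _ ⟨x, rfl⟩
    rcases x with i | x
    · obtain ⟨k, hk⟩ : cb i ∈ Set.range C := hr.ge (Or.inr ⟨i, rfl⟩)
      exact ⟨k, by simp [v, hk]⟩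
    · obtain ⟨k, hk⟩ : cT x.1 ∈ Set.range C := hr.ge (Or.inl ⟨σ x, by simp⟩)
      exact ⟨k, by simp [v, hk]⟩
  have hD : ∀ j, ∃ l : Fin (d + e) → κ, ∑ i, l i • (res ∘ C i) = Pi.single j 1 := fun j =>
    (Submodule.mem_span_range_iff_exists_fun κ).1 (hrows ▸ Submodule.mem_top)
  choose l hl using hD
  let D' : Matrix (Fin (d + e)) (Fin (d + e)) κ := l
  have h1 : D' * C.map res = 1 := by
    ext j k
    rw [Matrix.mul_apply, Matrix.one_apply]
    have := congrFun (hl j) k
    simpa [Finset.sum_apply, Pi.single_apply, eq_comm, D'] using this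
  have h2 : IsUnit (C.map res).det := Matrix.isUnit_det_of_left_inverse h1
  have h3 : (C.map res).det = res C.det := (RingHom.map_det res C).symm
  rw [h3] at h2
  exact isUnit_of_map_unit res _ h2

open Groth.Agent.H20.FibreDimBC (fdim fibrePoint comap_fibrePoint)
open CubeComp

/-- An ideal with the property upstairs gives one below, given a sequence regular in the fibre which
together with the ideal below generates it. -/
theorem genLoc_down_of_data (hP : Good Φ) {A B : Type u} [CommRing A] [CommRing B] [Algebra A B] [Algebra.Smooth A B]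
    (I : Ideal A) (J : Ideal B) (hIJ : ∀ a ∈ I, algebraMap A B a ∈ J) (Q : Ideal B) [Q.IsPrime]
    (hQ : J ≤ Q) {r : ℕ} (hr : GenLoc Φ r J Q) {d : ℕ} (b : Fin d → B) (hbJ : ∀ i, b i ∈ J)
    (hwL : IsWeaklyRegular (Localization.AtPrime Q ⧸ (Q.under A).map (algebraMap A (Localization.AtPrime Q)))
      ((List.ofFn b).map (algebraMap B
        (Localization.AtPrime Q ⧸ (Q.under A).map (algebraMap A (Localization.AtPrime Q))))))
    (hgenJ : ∀ y ∈ J, ∃ s, s ∉ Q ∧ s * y ∈ I.map (algebraMap A B) ⊔ Ideal.span (Set.range b) ⊔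
      (Q.under A).map (algebraMap A B) * J) :
    ∃ e, GenLoc Φ e I (Q.under A) := by
  classical
  haveI : Algebra.FiniteType A B := inferInstance
  set p := Q.under A with hp
  let BQ := Localization.AtPrime Q
  let L := BQ ⧸ p.map (algebraMap A BQ)
  obtain ⟨g₀, hg₀, hgen⟩ := hr
  obtain ⟨f, hf, hJ⟩ := exists_numerators hP g₀ (Localization.Away g₀) hgen
  haveI : Nontrivial L := Ideal.Quotient.nontrivial_iff.2 (fun h => by
    have h1 : p.map (algebraMap A BQ) ≤ maximalIdeal BQ := by
      rw [← Localization.AtPrime.map_eq_maximalIdeal, Ideal.map_le_iff_le_comap]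
      intro a ha
      rw [Ideal.mem_comap, IsScalarTower.algebraMap_apply A B BQ]
      exact Ideal.mem_map_of_mem _ ha
    exact (IsLocalRing.maximalIdeal.isMaximal BQ).ne_top (top_le_iff.1 (h ▸ h1)))
  haveI : IsLocalRing L := IsLocalRing.of_surjective' (Ideal.Quotient.mk _) Ideal.Quotient.mk_surjective
  let μ : BQ →+* L := Ideal.Quotient.mk (p.map (algebraMap A BQ))
  haveI : IsLocalHom μ := IsLocalHom.of_surjective _ Ideal.Quotient.mk_surjective
  let πL : B →+* L := μ.comp (algebraMap B BQ)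
  have hμm : ∀ x, μ x ∈ maximalIdeal L ↔ x ∈ maximalIdeal BQ := fun x => by
    simp only [mem_maximalIdeal, mem_nonunits_iff]
    exact not_congr ⟨fun h => isUnit_of_map_unit μ x h, fun h => h.map μ⟩
  have hπm : ∀ x, πL x ∈ maximalIdeal L ↔ x ∈ Q := fun x => by
    rw [show πL x = μ (algebraMap B BQ x) from rfl, hμm]
    exact IsLocalization.AtPrime.to_map_mem_maximal_iff BQ Q x
  have hπp : ∀ a ∈ p, πL (algebraMap A B a) = 0 := fun a ha => by
    change μ (algebraMap B BQ (algebraMap A B a)) = 0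
    rw [← IsScalarTower.algebraMap_apply]
    exact Ideal.Quotient.eq_zero_iff_mem.2 (Ideal.mem_map_of_mem _ ha)
  have hrsA : Acyc (πL ∘ b) := CubeBase.acyc_of_isWeaklyRegular _ (by
    rw [← List.map_ofFn]; exact hwL)
  have hbm : Ideal.span (Set.range (πL ∘ b)) ≤ maximalIdeal L :=
    Ideal.span_le.2 (by rintro _ ⟨i, rfl⟩; exact (hπm _).2 (hQ (hbJ i)))
  have hJL : J.map πL ≤ Ideal.span (Set.range (πL ∘ b)) := by
    refine Ideal.map_le_iff_le_comap.2 fun y hy => ?_
    obtain ⟨s, hs, hsy⟩ := hgenJ y hy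
    have hle : I.map (algebraMap A B) ⊔ Ideal.span (Set.range b) ⊔ p.map (algebraMap A B) * J ≤
        (Ideal.span (Set.range (πL ∘ b))).comap πL := by
      refine sup_le (sup_le ?_ ?_) ?_
      · refine Ideal.map_le_iff_le_comap.2 fun a ha => ?_
        rw [Ideal.mem_comap, Ideal.mem_comap, hπp a (hQ (hIJ a ha))]
        exact zero_mem _
      · refine Ideal.span_le.2 ?_
        rintro _ ⟨i, rfl⟩
        exact Ideal.subset_span ⟨i, rfl⟩
      · refine Ideal.mul_le_left.trans (Ideal.map_le_iff_le_comap.2 fun a ha => ?_)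
        rw [Ideal.mem_comap, Ideal.mem_comap, hπp a ha]
        exact zero_mem _
    have h2 := hle hsy
    rw [Ideal.mem_comap, map_mul] at h2
    have hsu : IsUnit (πL s) := (IsLocalization.map_units BQ (⟨s, hs⟩ : Q.primeCompl)).map μ
    exact (Ideal.unit_mul_mem_iff_mem _ hsu).1 h2
  -- regularity and flatness nearby
  obtain ⟨g₁, hg₁, hnhd⟩ := SpreadReg.exists_weaklyRegular_nhd
    (fun p' Q => KoszulFlat.isRegularLocalRing_of_smooth p'.asIdeal.ResidueField (p'.asIdeal.Fiber B) Q.asIdeal)
    SmoothAmbient.isLocallyConstant_fdim Q (List.ofFn b)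
    (fun x hx => by obtain ⟨i, rfl⟩ := List.mem_ofFn.1 hx; exact hQ (hbJ i)) hwL
  -- generators in the local ring
  let fQ : Fin r → BQ := algebraMap B BQ ∘ f
  let φ₀ : Localization.Away g₀ →+* BQ := IsLocalization.Away.lift g₀
    (g := algebraMap B BQ) (IsLocalization.map_units BQ (⟨g₀, hg₀⟩ : Q.primeCompl))
  have hφ₀ : φ₀.comp (algebraMap B _) = algebraMap B BQ := IsLocalization.Away.lift_comp _ _
  have hφ₀f : φ₀.Flat := by
    letI := φ₀.toAlgebra
    haveI : IsScalarTower B (Localization.Away g₀) BQ := IsScalarTower.of_algebraMap_eq' hφ₀.symm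
    exact (Module.flat_iff_of_isLocalization (Localization.Away g₀) (Submonoid.powers g₀) (M := BQ)).2
      (IsLocalization.flat BQ Q.primeCompl)
  have hfQ : Φ BQ r fQ := by
    have := hP.flat φ₀ hφ₀f hf
    rwa [← Function.comp_assoc, ← RingHom.coe_comp, hφ₀] at this
  have hJQ : J.map (algebraMap B BQ) = Ideal.span (Set.range fQ) := by
    rw [← hφ₀, ← Ideal.map_map, hJ, Ideal.map_span, ← Set.range_comp, ← Function.comp_assoc, ← RingHom.coe_comp, hφ₀]
  let T : Set BQ := algebraMap A BQ '' (I : Set A)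
  obtain ⟨e, a, hdr, Cm, haT, hCdet, hCm⟩ := exists_completion hP fQ hfQ
    (fun i => by
      have h1 : fQ i ∈ J.map (algebraMap B BQ) := hJQ ▸ Ideal.subset_span ⟨i, rfl⟩
      rw [← Localization.AtPrime.map_eq_maximalIdeal]
      exact Ideal.map_mono hQ h1)
    T (algebraMap B BQ ∘ b)
    (by
      rintro _ ⟨x, hx, rfl⟩
      rw [← hJQ, IsScalarTower.algebraMap_apply A B BQ]
      exact Ideal.mem_map_of_mem _ (hIJ x hx))
    (fun i => hJQ ▸ Ideal.mem_map_of_mem _ (hbJ i))
    (by
      rw [← hJQ, Ideal.map_le_iff_le_comap]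
      intro y hy
      obtain ⟨s, hs, hsy⟩ := hgenJ y hy
      obtain ⟨u, hu, w, hw, huw⟩ := Submodule.mem_sup.1 hsy
      obtain ⟨i₀, hi₀, β, hβ, hib⟩ := Submodule.mem_sup.1 hu
      rw [Ideal.mem_comap]
      refine (Ideal.unit_mul_mem_iff_mem _ (IsLocalization.map_units BQ (⟨s, hs⟩ : Q.primeCompl))).1 ?_
      rw [← map_mul, ← huw, ← hib, map_add, map_add, Ideal.span_union]
      have hpm : (p.map (algebraMap A B)).map (algebraMap B BQ) ≤ maximalIdeal BQ := by
        rw [← Localization.AtPrime.map_eq_maximalIdeal]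
        exact Ideal.map_mono (Ideal.map_le_iff_le_comap.2 le_rfl)
      refine add_mem (add_mem (Ideal.mem_sup_left (Ideal.mem_sup_left ?_)) (Ideal.mem_sup_left (Ideal.mem_sup_right ?_)))
        (Ideal.mem_sup_right ?_)
      · have h4 := Ideal.mem_map_of_mem (algebraMap B BQ) hi₀
        rw [Ideal.map_map, ← IsScalarTower.algebraMap_eq] at h4
        exact (Ideal.map_le_iff_le_comap.2 fun z hz => Ideal.subset_span ⟨z, hz, rfl⟩ :
          I.map (algebraMap A BQ) ≤ Ideal.span T) h4
      · rw [Set.range_comp, ← Ideal.map_span]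
        exact Ideal.mem_map_of_mem _ hβ
      · have h4 := Ideal.mem_map_of_mem (algebraMap B BQ) hw
        rw [Ideal.map_mul] at h4
        exact Ideal.mul_mono_left hpm h4)
    (fun c hc i => (hμm _).1 <| by
      have h1 : μ (∑ i, c i * algebraMap B BQ (b i)) ∈ maximalIdeal L * Ideal.span (Set.range (πL ∘ b)) := by
        have h2 := Ideal.mem_map_of_mem μ hc
        rw [Ideal.map_mul] at h2
        have h5 : (maximalIdeal BQ).map μ ≤ maximalIdeal L := Ideal.map_le_iff_le_comap.2 fun z hz => (hμm z).2 hz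
        refine Ideal.mul_mono h5 ?_ h2
        rw [← hJQ, Ideal.map_map]
        exact hJL
      rw [map_sum] at h1
      simp only [map_mul] at h1
      obtain ⟨ν, hν, hνs⟩ : ∃ ν : Fin d → L, (∀ i, ν i ∈ maximalIdeal L) ∧
          ∑ i, ν i * πL (b i) = ∑ i, μ (c i) * πL (b i) := by
        refine Submodule.mul_induction_on h1 (fun q hq x hx => ?_) ?_
        · obtain ⟨c'', rfl⟩ := Ideal.mem_span_range_iff_exists_fun.1 hx
          exact ⟨fun i => q * c'' i, fun i => Ideal.mul_mem_right _ _ hq, by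
            rw [Finset.mul_sum]; exact Finset.sum_congr rfl fun i _ => mul_assoc _ _ _⟩
        · rintro _ _ ⟨c₁, hc₁, rfl⟩ ⟨c₂, hc₂, rfl⟩
          exact ⟨c₁ + c₂, fun i => add_mem (hc₁ i) (hc₂ i), by simp [add_mul, Finset.sum_add_distrib]⟩
      have h3 := CubeBase.mem_span_of_relation hrsA (c := fun i => μ (c i) - ν i)
        (by simp [sub_mul, Finset.sum_sub_distrib, hνs]) i
      simpa using add_mem (hbm h3) (hν i))
  -- lift the new generators and spread out
  choose aA haI haA using haT
  subst hdr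
  let F : Fin (d + e) → B := app (algebraMap A B ∘ aA) b
  have hF : algebraMap B BQ ∘ F = Cm.mulVec fQ := by
    rw [show (Fin.cast rfl : Fin (d + e) → Fin (d + e)) = id from funext fun _ => rfl,
      Function.comp_id] at hCm
    rw [← hCm]
    refine (map_app (algebraMap B BQ) _ b).trans (congrArg (fun z => app z _) (funext fun i => ?_))
    exact ((IsScalarTower.algebraMap_apply A B BQ _).symm.trans (haA i))
  obtain ⟨h₂, hh₂, hg₀h, hAF, hspF⟩ := exists_spread hP Q g₀ hg₀ f F hf Cm hCdet hF
  let h := h₂ * g₁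
  have hh : h ∉ Q := fun h' => (Ideal.IsPrime.mem_or_mem inferInstance h').elim hh₂ hg₁
  let S := Localization.Away h
  let σ := algebraMap B S
  have hu₂ : IsUnit (σ h₂) := isUnit_of_mul_isUnit_left (y := σ g₁)
    (by rw [← map_mul]; exact IsLocalization.Away.algebraMap_isUnit _)
  haveI : Module.Flat B S := IsLocalization.flat _ (Submonoid.powers h)
  let φ₂ : Localization.Away h₂ →+* S := IsLocalization.Away.lift h₂ hu₂
  have hφ₂ : φ₂.comp (algebraMap B _) = σ := IsLocalization.Away.lift_comp _ _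
  have hφ₂f : φ₂.Flat := by
    letI := φ₂.toAlgebra
    haveI : IsScalarTower B (Localization.Away h₂) S := IsScalarTower.of_algebraMap_eq' hφ₂.symm
    exact (Module.flat_iff_of_isLocalization (Localization.Away h₂) (Submonoid.powers h₂) (M := S)).2 ‹_›
  have hFS : Φ S (d + e) (σ ∘ F) := by
    have := hP.flat φ₂ hφ₂f hAF
    rwa [← Function.comp_assoc, ← RingHom.coe_comp, hφ₂] at this
  have hJS : J.map σ = Ideal.span (Set.range (σ ∘ F)) := by
    let φ₃ : Localization.Away g₀ →+* Localization.Away h₂ := IsLocalization.Away.lift g₀ hg₀h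
    have hφ₃ : φ₃.comp (algebraMap B _) = algebraMap B (Localization.Away h₂) := IsLocalization.Away.lift_comp _ _
    rw [← hφ₂, ← Ideal.map_map, ← hφ₃, ← Ideal.map_map, hJ, Ideal.map_span, Ideal.map_span]
    rw [show φ₃ '' Set.range (algebraMap B (Localization.Away g₀) ∘ f) = Set.range (algebraMap B (Localization.Away h₂) ∘ f) by
      rw [← Set.range_comp, ← Function.comp_assoc, ← RingHom.coe_comp, hφ₃]]
    rw [← Ideal.map_span, ← hspF, Ideal.map_span, ← Set.range_comp, ← Function.comp_assoc, ← RingHom.coe_comp, hφ₃, hφ₂]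
  let Ib := Ideal.span (Set.range (σ ∘ b))
  haveI : Module.Flat A (S ⧸ Ib) :=
    flat_quotient b fun q _ hq hall => (hnhd q fun h' => hq (q.mul_mem_left _ h')).2 hall
  haveI : Algebra.FinitePresentation B S := IsLocalization.Away.finitePresentation h
  haveI : Algebra.FinitePresentation A S := Algebra.FinitePresentation.trans A B S
  haveI : Algebra.FinitePresentation A (S ⧸ Ib) :=
    Algebra.FinitePresentation.quotient (Submodule.fg_span (Set.finite_range _))
  have hmap : σ ∘ F = app (algebraMap A S ∘ aA) (σ ∘ b) := by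
    rw [map_app]
    rfl
  -- the image is a neighbourhood
  have hopen := PrimeSpectrum.isOpenMap_comap_of_hasGoingDown_of_finitePresentation (R := A) (S := S ⧸ Ib)
  have hIbQ : Ib ≤ Q.map σ := by
    refine Ideal.span_le.2 ?_
    rintro _ ⟨i, rfl⟩
    exact Ideal.mem_map_of_mem _ (hQ (hbJ i))
  have hdisj : Disjoint (Submonoid.powers h : Set B) Q := by
    rw [Ideal.disjoint_powers_iff_notMem _ (Ideal.IsPrime.isRadical inferInstance)]
    exact hh
  haveI := IsLocalization.isPrime_of_isPrime_disjoint (Submonoid.powers h) S Q inferInstance hdisj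
  haveI : ((Q.map σ).map (Ideal.Quotient.mk Ib)).IsPrime :=
    Ideal.map_isPrime_of_surjective Ideal.Quotient.mk_surjective (Ideal.mk_ker.le.trans hIbQ)
  have hmem : (⟨p, inferInstance⟩ : PrimeSpectrum A) ∈ Set.range (PrimeSpectrum.comap (algebraMap A (S ⧸ Ib))) := by
    refine ⟨⟨(Q.map σ).map (Ideal.Quotient.mk Ib), inferInstance⟩, PrimeSpectrum.ext ?_⟩
    change ((Q.map σ).map (Ideal.Quotient.mk Ib)).comap (algebraMap A (S ⧸ Ib)) = p
    rw [show algebraMap A (S ⧸ Ib) = ((Ideal.Quotient.mk Ib).comp σ).comp (algebraMap A B) by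
      rw [RingHom.comp_assoc, ← IsScalarTower.algebraMap_eq]; rfl,
      ← Ideal.comap_comap, ← Ideal.comap_comap, Ideal.comap_map_of_surjective _ Ideal.Quotient.mk_surjective,
      ← RingHom.ker_eq_comap_bot, Ideal.mk_ker, sup_eq_left.2 hIbQ]
    congr 1
    exact IsLocalization.under_map_of_isPrime_disjoint (Submonoid.powers h) S inferInstance hdisj
  obtain ⟨_, ⟨g, rfl⟩, hgp, hsub⟩ := PrimeSpectrum.isTopologicalBasis_basic_opens.exists_subset_of_mem_open
    hmem hopen.isOpen_range
  refine ⟨e, g, hgp, ?_⟩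
  let Ag := Localization.Away g
  let T₁ := S ⧸ Ib
  let Tg := Localization.Away (algebraMap A T₁ g)
  let φg : Ag →+* Tg := IsLocalization.Away.lift g (g := algebraMap A Tg) (by
    rw [IsScalarTower.algebraMap_apply A T₁ Tg]
    exact IsLocalization.Away.algebraMap_isUnit _)
  have hφg : φg.comp (algebraMap A Ag) = algebraMap A Tg := IsLocalization.Away.lift_comp _ _
  letI := φg.toAlgebra
  haveI : IsScalarTower A Ag Tg := IsScalarTower.of_algebraMap_eq' hφg.symm
  haveI : Module.Flat T₁ Tg := IsLocalization.flat _ (Submonoid.powers (algebraMap A T₁ g))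
  haveI : Module.Flat A Tg := Module.Flat.trans A T₁ Tg
  haveI : Module.Flat Ag Tg := (Module.flat_iff_of_isLocalization Ag (Submonoid.powers g) (M := Tg)).2 ‹_›
  haveI : Module.FaithfullyFlat Ag Tg := by
    refine Module.FaithfullyFlat.of_comap_surjective fun P' => ?_
    have hgP' : g ∉ (PrimeSpectrum.comap (algebraMap A Ag) P').asIdeal := fun hg' =>
      P'.isPrime.ne_top (Ideal.eq_top_of_isUnit_mem _ hg' (IsLocalization.Away.algebraMap_isUnit g))
    obtain ⟨t, ht⟩ := hsub hgP'
    have htg : t ∈ Set.range (PrimeSpectrum.comap (algebraMap T₁ Tg)) := by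
      rw [PrimeSpectrum.localization_away_comap_range Tg (algebraMap A T₁ g)]
      intro h'
      exact hgP' (ht ▸ h')
    obtain ⟨t', rfl⟩ := htg
    refine ⟨t', PrimeSpectrum.localization_comap_injective Ag (Submonoid.powers g) ?_⟩
    rw [← ht, ← PrimeSpectrum.comap_comp_apply, ← PrimeSpectrum.comap_comp_apply]
    rw [← IsScalarTower.algebraMap_eq, ← IsScalarTower.algebraMap_eq]
  let aG : Fin e → Ag := algebraMap A Ag ∘ aA
  have hcompT : (fun i => algebraMap Ag Tg (aG i)) = algebraMap T₁ Tg ∘ (Ideal.Quotient.mk Ib ∘ (algebraMap A S ∘ aA)) := by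
    funext i
    change algebraMap Ag Tg (algebraMap A Ag (aA i)) = algebraMap T₁ Tg (algebraMap A T₁ (aA i))
    rw [← IsScalarTower.algebraMap_apply, ← IsScalarTower.algebraMap_apply]
  let Sg := Localization.Away (algebraMap A S g)
  let ψg : Ag →+* Sg := IsLocalization.Away.lift g (g := algebraMap A Sg) (by
    rw [IsScalarTower.algebraMap_apply A S Sg]
    exact IsLocalization.Away.algebraMap_isUnit _)
  have hψg : ψg.comp (algebraMap A Ag) = algebraMap A Sg := IsLocalization.Away.lift_comp _ _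
  letI := ψg.toAlgebra
  let πg : Sg →+* Tg := IsLocalization.Away.lift (algebraMap A S g)
    (g := (algebraMap T₁ Tg).comp (Ideal.Quotient.mk Ib)) (by
      exact IsLocalization.Away.algebraMap_isUnit (algebraMap A T₁ g))
  have hπg : πg.comp (algebraMap S Sg) = (algebraMap T₁ Tg).comp (Ideal.Quotient.mk Ib) :=
    IsLocalization.Away.lift_comp _ _
  let π : Sg →ₐ[Ag] Tg :=
    { πg with
      commutes' := RingHom.congr_fun (IsLocalization.ringHom_ext (Submonoid.powers g)
        (j := πg.comp ψg) (k := algebraMap Ag Tg) (by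
          rw [RingHom.comp_assoc, hψg, ← IsScalarTower.algebraMap_eq A Ag Tg, IsScalarTower.algebraMap_eq A S Sg,
            ← RingHom.comp_assoc, hπg, RingHom.comp_assoc, IsScalarTower.algebraMap_eq A T₁ Tg]
          rfl)) }
  have hAgA : Φ Ag e aG := by
    refine hP.descend π aG (algebraMap S Sg ∘ (σ ∘ b)) (fun i => ?_) ?_
    · change (πg.comp (algebraMap S Sg)) (σ (b i)) = 0
      rw [hπg, RingHom.comp_apply, show Ideal.Quotient.mk Ib (σ (b i)) = 0 from
        Ideal.Quotient.eq_zero_iff_mem.2 (Ideal.subset_span ⟨i, rfl⟩), map_zero]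
    · have h1 : Φ Sg (d + e) (algebraMap S Sg ∘ (σ ∘ F)) := hP.flat _
        (RingHom.flat_algebraMap_iff.2 (IsLocalization.flat Sg (Submonoid.powers (algebraMap A S g)))) hFS
      rw [hmap, map_app] at h1
      convert h1 using 2
      funext i
      change ψg (algebraMap A Ag (aA i)) = algebraMap S Sg (algebraMap A S (aA i))
      rw [← IsScalarTower.algebraMap_apply, ← hψg]
      rfl
  refine ⟨aG, hAgA, ?_⟩
  have hIT : I.map (algebraMap A T₁) = Ideal.span (Set.range (Ideal.Quotient.mk Ib ∘ (algebraMap A S ∘ aA))) := by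
    have hJT : (J.map σ).map (Ideal.Quotient.mk Ib) = Ideal.span (Set.range (Ideal.Quotient.mk Ib ∘ (algebraMap A S ∘ aA))) := by
      rw [hJS, hmap, range_app, Ideal.span_union, Ideal.map_sup]
      rw [show Ib = Ideal.span (Set.range (σ ∘ b)) from rfl, Ideal.map_quotient_self, sup_bot_eq, Ideal.map_span, ← Set.range_comp]
    refine le_antisymm ?_ (Ideal.span_le.2 ?_)
    · rw [← hJT, Ideal.map_le_iff_le_comap]
      intro x hx
      have := Ideal.mem_map_of_mem (Ideal.Quotient.mk Ib) (Ideal.mem_map_of_mem σ (hIJ x hx))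
      rwa [show σ (algebraMap A B x) = algebraMap A S x from (IsScalarTower.algebraMap_apply A B S x).symm] at this
    · rintro _ ⟨i, rfl⟩
      exact Ideal.mem_map_of_mem (algebraMap A T₁) (haI i)
  rw [← Ideal.comap_map_eq_self_of_faithfullyFlat (B := Tg) (I.map (algebraMap A Ag)),
    ← Ideal.comap_map_eq_self_of_faithfullyFlat (B := Tg) (Ideal.span (Set.range aG))]
  congr 1
  rw [Ideal.map_map, ← IsScalarTower.algebraMap_eq, IsScalarTower.algebraMap_eq A T₁ Tg, ← Ideal.map_map, hIT,
    Ideal.map_span, Ideal.map_span, ← Set.range_comp, ← Set.range_comp, ← hcompT]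
  rfl

section Down

variable {A B C : Type u} [CommRing A] [CommRing B] [CommRing C] [Algebra A B] [Algebra A C]
  (hAC : Function.Surjective (algebraMap A C)) (ψ : B →ₐ[A] C)

include hAC in
/-- A kernel with the property upstairs gives one below. -/
theorem genLoc_down (hP : Good Φ) [Algebra.Smooth A B] (Q : Ideal B) [Q.IsPrime]
    (hQ : RingHom.ker ψ.toRingHom ≤ Q) {r : ℕ} (hr : GenLoc Φ r (RingHom.ker ψ.toRingHom) Q) :
    ∃ e, GenLoc Φ e (RingHom.ker (algebraMap A C)) (Q.under A) := by
  classical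
  haveI : Algebra.FiniteType A B := inferInstance
  set I := RingHom.ker (algebraMap A C)
  set J := RingHom.ker ψ.toRingHom
  set p := Q.under A with hp
  let BQ := Localization.AtPrime Q
  let L := BQ ⧸ p.map (algebraMap A BQ)
  -- the fibre
  obtain ⟨eB⟩ := JacCrit.FlatRegular.nonempty_ringEquiv p Q (fibrePoint A B Q).asIdeal (comap_fibrePoint Q)
  haveI := KoszulFlat.isRegularLocalRing_of_smooth p.ResidueField (p.Fiber B) (fibrePoint A B Q).asIdeal
  haveI : IsRegularLocalRing L :=
    IsRegularLocalRing.of_ringEquiv (R := Localization.AtPrime (fibrePoint A B Q).asIdeal) eB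
  let μ : BQ →+* L := Ideal.Quotient.mk (p.map (algebraMap A BQ))
  haveI : IsLocalHom μ := IsLocalHom.of_surjective _ Ideal.Quotient.mk_surjective
  let πL : B →+* L := μ.comp (algebraMap B BQ)
  have hμm : ∀ x, μ x ∈ maximalIdeal L ↔ x ∈ maximalIdeal BQ := fun x => by
    simp only [mem_maximalIdeal, mem_nonunits_iff]
    exact not_congr ⟨fun h => isUnit_of_map_unit μ x h, fun h => h.map μ⟩
  have hπm : ∀ x, πL x ∈ maximalIdeal L ↔ x ∈ Q := fun x => by
    rw [show πL x = μ (algebraMap B BQ x) from rfl, hμm]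
    exact IsLocalization.AtPrime.to_map_mem_maximal_iff BQ Q x
  have hπp : ∀ a ∈ p, πL (algebraMap A B a) = 0 := fun a ha => by
    change μ (algebraMap B BQ (algebraMap A B a)) = 0
    rw [← IsScalarTower.algebraMap_apply]
    exact Ideal.Quotient.eq_zero_iff_mem.2 (Ideal.mem_map_of_mem _ ha)
  have hmax : maximalIdeal L = J.map πL := by
    refine le_antisymm (fun y hy => ?_) (Ideal.map_le_iff_le_comap.2 fun x hx => (hπm x).2 (hQ hx))
    obtain ⟨y, rfl⟩ := Ideal.Quotient.mk_surjective y
    obtain ⟨b, s, rfl⟩ := IsLocalization.exists_mk'_eq Q.primeCompl y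
    have hb : b ∈ Q := (IsLocalization.AtPrime.mk'_mem_maximal_iff BQ Q b s).1 ((hμm _).1 hy)
    obtain ⟨a, ha⟩ := exists_sub_mem hAC ψ b
    have hap : a ∈ p := by
      have := Q.sub_mem hb (hQ ha)
      rwa [sub_sub_cancel] at this
    have h1 : πL b ∈ J.map πL := by
      rw [← sub_add_cancel b (algebraMap A B a), map_add, hπp a hap, add_zero]
      exact Ideal.mem_map_of_mem _ ha
    have h2 : IsUnit (πL s.1) := (IsLocalization.map_units BQ s).map μ
    refine (Ideal.unit_mul_mem_iff_mem _ h2).1 ?_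
    rw [show πL s.1 * μ (IsLocalization.mk' BQ b s) = πL b by
      rw [show πL s.1 = μ (algebraMap B BQ s.1) from rfl, ← map_mul, IsLocalization.mk'_spec']
      rfl]
    exact h1
  obtain ⟨rs, hrs, hlen⟩ := H26.CIQuotient.exists_list_spanFinrank (maximalIdeal L) (IsNoetherian.noetherian _)
  have hreg := Groth.Agent.Lib.Regular.Quotient.isRegular_of_span_eq_maximalIdeal rs hrs hlen
  have hlift : ∀ i : Fin rs.length, ∃ b ∈ J, ∃ v : L, IsUnit v ∧ πL b = v * rs.get i := fun i => by
    have h1 : rs.get i ∈ (J.map (algebraMap B BQ)).map μ := by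
      rw [Ideal.map_map, ← hmax, ← hrs]
      exact Ideal.subset_span (List.get_mem rs i)
    obtain ⟨y, hy, hye⟩ := (Ideal.mem_map_iff_of_surjective _ Ideal.Quotient.mk_surjective).1 h1
    obtain ⟨⟨x, s⟩, e⟩ := (IsLocalization.mem_map_algebraMap_iff Q.primeCompl BQ).1 hy
    refine ⟨x.1, x.2, μ (algebraMap B BQ s.1), (IsLocalization.map_units _ s).map μ, ?_⟩
    rw [← hye, show πL x.1 = μ (algebraMap B BQ x.1) from rfl, ← e, map_mul, mul_comm]
  choose b hbJ v hv hbv using hlift
  have hwL : IsWeaklyRegular L ((List.ofFn b).map (algebraMap B L)) := by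
    have e1 : (List.ofFn b).map (algebraMap B L) = List.ofFn fun i => v i * rs.get i := by
      rw [List.map_ofFn]
      exact congrArg List.ofFn (funext hbv)
    have e2 := (KRGens.acyc_and_span_of_units v hv rs.get
      (CubeBase.acyc_of_isWeaklyRegular _ (by rw [List.ofFn_get]; exact hreg.toIsWeaklyRegular)))
    have hsp : Ideal.ofList (List.ofFn fun i => v i * rs.get i) = maximalIdeal L := by
      rw [← span_range_eq_ofList, e2.2, span_range_eq_ofList, List.ofFn_get, hrs]
    rw [e1]
    exact (Groth.Agent.Lib.Regular.Quotient.isRegular_of_span_eq_maximalIdeal _ hsp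
      (by rw [List.length_ofFn, hlen])).toIsWeaklyRegular
  have hspanL : Ideal.span (Set.range (πL ∘ b)) = maximalIdeal L := by
    rw [show πL ∘ b = fun i => v i * rs.get i from funext hbv,
      (KRGens.acyc_and_span_of_units v hv rs.get
        (CubeBase.acyc_of_isWeaklyRegular _ (by rw [List.ofFn_get]; exact hreg.toIsWeaklyRegular))).2,
      span_range_eq_ofList, List.ofFn_get, hrs]
  refine genLoc_down_of_data hP I J (fun a ha => ?_) Q hQ hr b hbJ hwL fun y hy => ?_
  · change ψ (algebraMap A B a) = 0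
    rw [ψ.commutes]
    exact ha
  have h1 : πL y ∈ Ideal.span (Set.range (πL ∘ b)) := hspanL ▸ (hπm y).2 (hQ hy)
  obtain ⟨c, hc⟩ := Ideal.mem_span_range_iff_exists_fun.1 h1
  choose c' hc' using fun i => Ideal.Quotient.mk_surjective (c i)
  have h2 : algebraMap B BQ y - ∑ i, c' i * algebraMap B BQ (b i) ∈ p.map (algebraMap A BQ) := by
    rw [← Ideal.Quotient.eq_zero_iff_mem, map_sub, map_sum, sub_eq_zero]
    refine hc.symm.trans (Finset.sum_congr rfl fun i _ => ?_)
    rw [map_mul, hc' i]
    rfl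
  have h3 : algebraMap B BQ y ∈ (Ideal.span (Set.range b) ⊔ p.map (algebraMap A B)).map (algebraMap B BQ) := by
    rw [Ideal.map_sup, Ideal.map_map, ← IsScalarTower.algebraMap_eq, Ideal.map_span, ← Set.range_comp,
      ← sub_add_cancel (algebraMap B BQ y) (∑ i, c' i * algebraMap B BQ (b i))]
    exact add_mem (Ideal.mem_sup_right h2) (Ideal.mem_sup_left
      (Ideal.mem_span_range_iff_exists_fun.2 ⟨c', rfl⟩))
  obtain ⟨s, hs, hsy⟩ := (IsLocalization.algebraMap_mem_map_algebraMap_iff Q.primeCompl BQ _ y).1 h3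
  obtain ⟨β, hβ, x, hx, hβx⟩ := Submodule.mem_sup.1 hsy
  have hxJ : x ∈ J := by
    have : β ∈ J := (Ideal.span_le.2 (by rintro _ ⟨i, rfl⟩; exact hbJ i)) hβ
    have hsyJ : β + x ∈ J := hβx ▸ Ideal.mul_mem_left _ s hy
    simpa using sub_mem hsyJ this
  refine ⟨s, hs, ?_⟩
  rw [← hβx]
  refine add_mem (Ideal.mem_sup_left (Ideal.mem_sup_right hβ)) ?_
  exact (sup_le_sup_right le_sup_left _ : I.map (algebraMap A B) ⊔ _ ≤ _) (mem_of_mem_map hAC ψ p hx hxJ)

end Down

end Groth.Agent.Lib.KindDesc.Smooth
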