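import Groth.Agent.Lib.KindDesc.Imm
import Groth.Agent.Lib.KindDesc.Smooth

/-! Immersions with the property descend along smooth morphisms. -/

set_option autoImplicit false

universe u

open CategoryTheory AlgebraicGeometry

namespace Groth.Agent.Lib.KindDesc.SmoothDown

open Groth.Agent.Lib.KindDesc Groth.Agent.Lib.KindDesc.Imm

variable {Φ : Pred.{u}}

theorem exists_atN_of_above (hP : Good Φ) {Z X Y : Scheme.{u}} (i : Z ⟶ X) [IsImmersion i] (j : Z ⟶ Y)
    [IsImmersion j] (p : Y ⟶ X) [Smooth p] (h : j ≫ p = i) (z : Z) (hj : ∃ n, AtN Φ n j z) :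
    ∃ n, AtN Φ n i z := by
  obtain ⟨n, hn⟩ := hj
  obtain ⟨A, B, C, _, _, _, _, _, _, ψ, Q, _, hs, hQ, h1, h2⟩ := exists_smooth_chart hP i j p h z
  obtain ⟨e, he⟩ := Smooth.genLoc_down hs ψ hP Q hQ ((h2 n).1 hn)
  exact ⟨e, (h1 _).2 he⟩

end Groth.Agent.Lib.KindDesc.SmoothDown
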