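import Groth.Agent.Lib.KindDesc.Loc
import Groth.Agent.Lib.Synt92.KRDescent

/-! Faithfully flat descent of ideals locally generated by sequences with a descendable property. -/

set_option autoImplicit false

universe u

namespace Groth.Agent.Lib.KindDesc.Descent

open Groth.Agent.Lib.KindDesc Groth.Agent.Lib.KindDesc.Loc
open Groth.Agent.Lib.Synt92.KRDescent (map_span_eq_map exists_min_gens le_card fg_of_map)
open Groth.Agent.Lib.Synt92.CubeComp

variable {A : Type u} [CommRing A] {Φ : Pred.{u}}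

/-- The property is reflected by faithfully flat maps. -/
theorem of_faithfullyFlat (hP : Good Φ) {B : Type u} [CommRing B] [Algebra A B] [Module.FaithfullyFlat A B]
    {n : ℕ} (f : Fin n → A) (h : Φ B n (algebraMap A B ∘ f)) : Φ A n f := by
  refine hP.descend (AlgHom.id A B) (d := 0) f Fin.elim0 (fun i => i.elim0) ?_
  have e : app (algebraMap A B ∘ f) Fin.elim0 = (algebraMap A B ∘ f) ∘ Fin.cast (Nat.zero_add n) := by
    refine List.ofFn_inj.1 ?_
    rw [ofFn_app, List.ofFn_congr (Nat.zero_add n).symm (algebraMap A B ∘ f)]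
    simp [Fin.cast]
  rw [e]
  exact pred_cast _ h

theorem pred_localization_iff (hP : Good Φ) {n : ℕ} {B : Type u} [CommRing B] [Algebra A B] [Module.Flat A B]
    (g : Fin n → A) (Q : Ideal B) [Q.IsPrime] :
    Φ (Localization.AtPrime Q) n (algebraMap B (Localization.AtPrime Q) ∘ algebraMap A B ∘ g) ↔
      Φ (Localization.AtPrime (Q.comap (algebraMap A B))) n
        (algebraMap A (Localization.AtPrime (Q.comap (algebraMap A B))) ∘ g) := by
  let φ := Localization.localRingHom (Q.comap (algebraMap A B)) Q (algebraMap A B) rfl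
  have hflat : φ.Flat := RingHom.Flat.localRingHom (RingHom.flat_algebraMap_iff.2 ‹_›) Q _ rfl
  have e : algebraMap B (Localization.AtPrime Q) ∘ algebraMap A B ∘ g =
      φ ∘ (algebraMap A (Localization.AtPrime (Q.comap (algebraMap A B))) ∘ g) :=
    funext fun i => (Localization.localRingHom_to_map _ _ _ rfl (g i)).symm
  rw [e]
  refine ⟨fun h => ?_, hP.flat φ hflat⟩
  letI := φ.toAlgebra
  haveI : Module.Flat _ (Localization.AtPrime Q) := hflat
  haveI : IsLocalHom (algebraMap (Localization.AtPrime (Q.comap (algebraMap A B))) (Localization.AtPrime Q)) :=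
    Localization.isLocalHom_localRingHom _ _ _ rfl
  haveI := Module.FaithfullyFlat.of_flat_of_isLocalHom
    (A := Localization.AtPrime (Q.comap (algebraMap A B))) (B := Localization.AtPrime Q)
  exact of_faithfullyFlat hP _ h

/-- The length is at most that of any generating family. -/
theorem le_of_span_eq (hP : Good Φ) {L : Type u} [CommRing L] [IsLocalRing L] {r s : ℕ} {f : Fin r → L}
    (hf : Φ L r f) (hne : Ideal.span (Set.range f) ≠ ⊤) (h : Fin s → L)
    (e : Ideal.span (Set.range f) = Ideal.span (Set.range h)) : r ≤ s :=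
  le_card f h e fun _ hc i => IsLocalRing.le_maximalIdeal hne (hP.rel hf hc i)

theorem fg_of_genLoc {I : Ideal A} (h : ∀ P : PrimeSpectrum A, I ≤ P.asIdeal → ∃ m, GenLoc Φ m I P.asIdeal) :
    I.FG := by
  classical
  have hP : ∀ P : PrimeSpectrum A, ∃ g, g ∉ P.asIdeal ∧ (I.map (algebraMap A (Localization.Away g))).FG := by
    intro P
    by_cases hI : I ≤ P.asIdeal
    · obtain ⟨m, g, hg, f, -, hf⟩ := h P hI
      exact ⟨g, hg, hf ▸ ⟨Finset.univ.image f, by simp⟩⟩
    · obtain ⟨g, hgI, hg⟩ := SetLike.not_le_iff_exists.1 hI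
      refine ⟨g, hg, ?_⟩
      rw [Ideal.eq_top_of_isUnit_mem (I.map (algebraMap A (Localization.Away g))) (Ideal.mem_map_of_mem _ hgI)
        (IsLocalization.Away.algebraMap_isUnit g)]
      exact (⟨{1}, by simp⟩ : (⊤ : Ideal (Localization.Away g)).FG)
  choose g hg hfg using hP
  have hspan : Ideal.span (Set.range g) = ⊤ := by
    by_contra hne
    obtain ⟨M, hM, hle⟩ := Ideal.exists_le_maximal _ hne
    exact hg ⟨M, hM.isPrime⟩ (hle (Ideal.subset_span ⟨_, rfl⟩))
  obtain ⟨t, ht, htop⟩ := (Ideal.span_eq_top_iff_finite _).1 hspan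
  refine Ideal.fg_of_localizationSpan (t : Set A) htop fun x => ?_
  obtain ⟨P, hP⟩ := ht x.2
  rw [← hP]
  exact hfg P

variable {B : Type u} [CommRing B] [Algebra A B] [Module.FaithfullyFlat A B] {I : Ideal A}

/-- Ideals generated near each prime by such sequences descend along faithfully flat maps. -/
theorem exists_genLoc (hP : Good Φ) (h : ∀ Q : PrimeSpectrum B, I.map (algebraMap A B) ≤ Q.asIdeal →
      ∃ m, GenLoc Φ m (I.map (algebraMap A B)) Q.asIdeal) (P : PrimeSpectrum A) (hIP : I ≤ P.asIdeal) :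
    ∃ m, GenLoc Φ m I P.asIdeal := by
  classical
  obtain ⟨r, g, f, hf, hg, hgen, hrel⟩ := exists_min_gens I (fg_of_map (fg_of_genLoc h)) P.asIdeal
  let G : Fin r → B := algebraMap A B ∘ g
  let W : Set (PrimeSpectrum B) := {Q | algebraMap A B f ∉ Q.asIdeal ∧
    Φ (Localization.AtPrime Q.asIdeal) r (algebraMap B (Localization.AtPrime Q.asIdeal) ∘ G)}
  let W₀ : Set (PrimeSpectrum A) := {p | f ∉ p.asIdeal ∧
    Φ (Localization.AtPrime p.asIdeal) r (algebraMap A (Localization.AtPrime p.asIdeal) ∘ g)}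
  have hWW : W = PrimeSpectrum.comap (algebraMap A B) ⁻¹' W₀ := by
    ext Q
    exact and_congr Iff.rfl (pred_localization_iff hP g Q.asIdeal)
  -- on a chart of length `r` the generators are acyclic
  have hchart : ∀ (Q : PrimeSpectrum B) (b : B), b ∉ Q.asIdeal → algebraMap A B f ∉ Q.asIdeal →
      Gen Φ r ((I.map (algebraMap A B)).map (algebraMap B (Localization.Away b))) → Q ∈ W := by
    intro Q b hb hfQ hgen'
    let L := Localization.AtPrime Q.asIdeal
    have hu : ∀ x : B, x ∉ Q.asIdeal → IsUnit (algebraMap B L x) := fun x hx =>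
      IsLocalization.map_units L (⟨x, hx⟩ : Q.asIdeal.primeCompl)
    haveI : Module.Flat B L := IsLocalization.flat _ Q.asIdeal.primeCompl
    obtain ⟨h', hh', e⟩ := gen_of_isUnit hP b (Localization.Away b) hgen' L (hu b hb)
    rw [Ideal.map_map, map_span_eq_map g hg hgen ((algebraMap B L).comp (algebraMap A B)) (hu _ hfQ)] at e
    exact ⟨hfQ, hP.card_eq hh' e⟩
  -- lengths at points of the support
  have hlen : ∀ (Q : PrimeSpectrum B) (s : ℕ), algebraMap A B f ∉ Q.asIdeal →
      I.map (algebraMap A B) ≤ Q.asIdeal → GenLoc Φ s (I.map (algebraMap A B)) Q.asIdeal →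
      s ≤ r ∧ (Q.asIdeal.comap (algebraMap A B) = P.asIdeal → r ≤ s) ∧
        (Φ (Localization.AtPrime Q.asIdeal) r (algebraMap B (Localization.AtPrime Q.asIdeal) ∘ G) → r ≤ s) := by
    intro Q s hfQ hIQ ⟨b, hb, hgen'⟩
    let L := Localization.AtPrime Q.asIdeal
    have hu : ∀ x : B, x ∉ Q.asIdeal → IsUnit (algebraMap B L x) := fun x hx =>
      IsLocalization.map_units L (⟨x, hx⟩ : Q.asIdeal.primeCompl)
    haveI : Module.Flat B L := IsLocalization.flat _ Q.asIdeal.primeCompl
    obtain ⟨h', hh', e⟩ := gen_of_isUnit hP b (Localization.Away b) hgen' L (hu b hb)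
    have hne : (I.map (algebraMap A B)).map (algebraMap B L) ≠ ⊤ := fun ht =>
      (IsLocalRing.maximalIdeal.isMaximal L).ne_top (top_le_iff.1 (ht ▸ (Ideal.map_mono hIQ).trans
        (le_of_eq Localization.AtPrime.map_eq_maximalIdeal)))
    have eg : (I.map (algebraMap A B)).map (algebraMap B L) = Ideal.span (Set.range (algebraMap B L ∘ G)) := by
      rw [Ideal.map_map, map_span_eq_map g hg hgen ((algebraMap B L).comp (algebraMap A B)) (hu _ hfQ)]
      rfl
    refine ⟨?_, fun hQP => ?_, fun hG => ?_⟩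
    · exact le_of_span_eq hP hh' (e ▸ hne) _ (e.symm.trans eg)
    · haveI : Module.Flat A L := Module.Flat.trans A B L
      refine le_card (algebraMap B L ∘ G) h' (eg.symm.trans e) fun c hc i => ?_
      obtain ⟨k, a, y, hy, ha⟩ := Module.Flat.isTrivialRelation_of_sum_smul_eq_zero (R := A) (M := L)
        (f := g) (x := c) (by
          rw [← hc]
          refine Finset.sum_congr rfl fun i _ => ?_
          rw [Algebra.smul_def, mul_comm]
          rfl)
      rw [hy i]
      refine Submodule.sum_mem _ fun j _ => ?_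
      rw [Algebra.smul_def, IsScalarTower.algebraMap_apply A B L]
      refine Ideal.mul_mem_right _ _ ?_
      have := hrel (fun i => a i j) (by rw [← ha j]; exact Finset.sum_congr rfl fun i _ => mul_comm _ _) i
      rw [← hQP] at this
      exact (IsLocalization.AtPrime.to_map_mem_maximal_iff L Q.asIdeal _).2 this
    · exact le_of_span_eq hP hG (eg ▸ hne) _ (eg.symm.trans e)
  have hopen : IsOpen W := by
    refine isOpen_iff_forall_mem_open.2 fun Q ⟨hfQ, hQ⟩ => ?_
    by_cases hIQ : I.map (algebraMap A B) ≤ Q.asIdeal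
    · obtain ⟨s, hs⟩ := h Q hIQ
      obtain ⟨h1, -, h3⟩ := hlen Q s hfQ hIQ hs
      obtain rfl := le_antisymm h1 (h3 hQ)
      obtain ⟨b, hb, hgen'⟩ := hs
      refine ⟨PrimeSpectrum.basicOpen (b * algebraMap A B f), fun Q' hQ' => ?_, (PrimeSpectrum.basicOpen _).2, ?_⟩
      · exact hchart Q' b (fun h' => hQ' (Ideal.mul_mem_right _ _ h'))
          (fun h' => hQ' (Ideal.mul_mem_left _ _ h')) hgen'
      · exact fun h' => (Q.isPrime.mem_or_mem h').elim hb hfQ
    · obtain ⟨x, hxI, hx⟩ := SetLike.not_le_iff_exists.1 hIQ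
      refine ⟨PrimeSpectrum.basicOpen (x * algebraMap A B f), fun Q' hQ' => ?_, (PrimeSpectrum.basicOpen _).2, ?_⟩
      · have hfQ' : algebraMap A B f ∉ Q'.asIdeal := fun h' => hQ' (Ideal.mul_mem_left _ _ h')
        refine ⟨hfQ', hP.top ?_⟩
        let L := Localization.AtPrime Q'.asIdeal
        have hu : ∀ x : B, x ∉ Q'.asIdeal → IsUnit (algebraMap B L x) := fun x hx =>
          IsLocalization.map_units L (⟨x, hx⟩ : Q'.asIdeal.primeCompl)
        have e := map_span_eq_map g hg hgen ((algebraMap B L).comp (algebraMap A B)) (hu _ hfQ')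
        rw [← Ideal.map_map] at e
        exact e.symm.trans (Ideal.eq_top_of_isUnit_mem _ (Ideal.mem_map_of_mem _ hxI)
          (hu x fun h' => hQ' (Ideal.mul_mem_right _ _ h')))
      · exact fun h' => (Q.isPrime.mem_or_mem h').elim hx hfQ
  have hW₀ : IsOpen W₀ := by
    rw [hWW] at hopen
    exact ((PrimeSpectrum.isQuotientMap_of_generalizingMap (PrimeSpectrum.comap_surjective_of_faithfullyFlat)
      (RingHom.Flat.generalizingMap_comap (RingHom.flat_algebraMap_iff.2 inferInstance))).isOpen_preimage).1 hopen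
  have hPW : P ∈ W₀ := by
    obtain ⟨Q, hQ⟩ := PrimeSpectrum.comap_surjective_of_faithfullyFlat (B := B) P
    have hQP : Q.asIdeal.comap (algebraMap A B) = P.asIdeal := congrArg PrimeSpectrum.asIdeal hQ
    have hfQ : algebraMap A B f ∉ Q.asIdeal := fun h' => hf (hQP ▸ h')
    have hIQ : I.map (algebraMap A B) ≤ Q.asIdeal := Ideal.map_le_iff_le_comap.2 (hQP ▸ hIP)
    obtain ⟨s, hs⟩ := h Q hIQ
    obtain ⟨h1, h2, -⟩ := hlen Q s hfQ hIQ hs
    obtain rfl := le_antisymm h1 (h2 hQP)
    obtain ⟨b, hb, hgen'⟩ := hs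
    have : Q ∈ W := hchart Q b hb hfQ hgen'
    rw [hWW] at this
    exact hQ ▸ this
  obtain ⟨_, ⟨c, rfl⟩, hcP, hcW⟩ := PrimeSpectrum.isTopologicalBasis_basic_opens.exists_subset_of_mem_open hPW hW₀
  have hcP' : c ∉ P.asIdeal := hcP
  let S := Localization.Away (f * c)
  haveI : Module.Flat A S := IsLocalization.flat _ (Submonoid.powers (f * c))
  refine ⟨r, f * c, fun h' => (P.isPrime.mem_or_mem h').elim hf hcP', algebraMap A S ∘ g, ?_, ?_⟩
  · refine hP.localP fun p hp => ?_
    refine (pred_localization_iff hP g p).2 (hcW (?_ : (⟨p.comap (algebraMap A S), inferInstance⟩ : PrimeSpectrum A) ∈ _)).2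
    intro h'
    exact hp.ne_top (Ideal.eq_top_of_isUnit_mem _ h' (isUnit_of_mul_isUnit_right (x := algebraMap A S f)
      (by rw [← map_mul]; exact IsLocalization.Away.algebraMap_isUnit _)))
  · exact map_span_eq_map g hg hgen _ (isUnit_of_mul_isUnit_left (y := algebraMap A S c)
      (by rw [← map_mul]; exact IsLocalization.Away.algebraMap_isUnit _))

end Groth.Agent.Lib.KindDesc.Descent
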