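import Groth.Agent.Lib.KindDesc.Good
import Mathlib.RingTheory.Localization.Algebra
import Mathlib.RingTheory.Localization.Away.Basic
import Mathlib.LinearAlgebra.Matrix.NonsingularInverse

/-! Ideals generated near a prime by sequences with a descendable property. -/

set_option autoImplicit false

universe u

namespace Groth.Agent.Lib.KindDesc.Loc

open Groth.Agent.Lib.KindDesc

variable {A : Type u} [CommRing A]

/-- The ideal is generated by a Koszul-regular sequence of length `m`. -/
def Gen (Φ : Pred.{u}) (m : ℕ) (I : Ideal A) : Prop :=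
  ∃ f : Fin m → A, Φ A m f ∧ I = Ideal.span (Set.range f)

/-- The ideal is, near `P`, generated by a Koszul-regular sequence of length `m`. -/
def GenLoc (Φ : Pred.{u}) (m : ℕ) (I : Ideal A) (P : Ideal A) : Prop :=
  ∃ g, g ∉ P ∧ Gen Φ m (I.map (algebraMap A (Localization.Away g)))

theorem span_range_eq_ofList {m : ℕ} (f : Fin m → A) :
    Ideal.span (Set.range f) = Ideal.ofList (List.ofFn f) :=
  congrArg Ideal.span (Set.ext fun x => by
    rw [Set.mem_range, Set.mem_ofPred_eq, List.mem_ofFn])

variable {Φ : Pred.{u}}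

theorem gen_of_list {l : List A} (hl : Φ A l.length l.get) {I : Ideal A} (h : I = Ideal.ofList l) :
    Gen Φ l.length I :=
  ⟨l.get, hl, by rw [span_range_eq_ofList, List.ofFn_get, h]⟩

theorem pred_cast {m n : ℕ} (e : n = m) {f : Fin m → A} (hf : Φ A m f) : Φ A n (f ∘ Fin.cast e) := by
  subst e
  exact hf

theorem exists_list {m : ℕ} {I : Ideal A} (h : Gen Φ m I) :
    ∃ l : List A, l.length = m ∧ Φ A l.length l.get ∧ I = Ideal.ofList l := by
  obtain ⟨f, hf, rfl⟩ := h
  refine ⟨List.ofFn f, List.length_ofFn, ?_, span_range_eq_ofList f⟩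
  convert pred_cast List.length_ofFn hf using 1
  funext i
  simp [Fin.cast]

theorem gen_map (hP : Good Φ) {B : Type u} [CommRing B] (φ : A →+* B) (hφ : φ.Flat) {m : ℕ} {I : Ideal A}
    (h : Gen Φ m I) : Gen Φ m (I.map φ) := by
  obtain ⟨f, hf, rfl⟩ := h
  exact ⟨φ ∘ f, hP.flat φ hφ hf, by rw [Ideal.map_span, Set.range_comp]⟩

theorem gen_map_equiv (hP : Good Φ) {B : Type u} [CommRing B] (e : A ≃+* B) {m : ℕ} {I : Ideal A}
    (h : Gen Φ m I) : Gen Φ m (I.map e.toRingHom) :=
  gen_map hP _ (RingHom.Flat.of_bijective e.bijective) h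

/-- Generators on a basic open generate on every flat algebra inverting the element. -/
theorem gen_of_isUnit (hP : Good Φ) {m : ℕ} {I : Ideal A} (g : A) (L : Type u) [CommRing L] [Algebra A L]
    [IsLocalization.Away g L] (h : Gen Φ m (I.map (algebraMap A L))) (S : Type u) [CommRing S]
    [Algebra A S] [Module.Flat A S] (hu : IsUnit (algebraMap A S g)) :
    Gen Φ m (I.map (algebraMap A S)) := by
  let φ : L →+* S := IsLocalization.Away.lift g hu
  have hφ : φ.comp (algebraMap A L) = algebraMap A S := IsLocalization.Away.lift_comp g hu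
  letI := φ.toAlgebra
  haveI : IsScalarTower A L S := IsScalarTower.of_algebraMap_eq' hφ.symm
  have hflat : φ.Flat := (Module.flat_iff_of_isLocalization L (Submonoid.powers g) (M := S)).2 ‹_›
  rw [← hφ, ← Ideal.map_map]
  exact gen_map hP φ hflat h

theorem genLoc_mk (hP : Good Φ) {m : ℕ} {I P : Ideal A} (g : A) (hg : g ∉ P) (L : Type u) [CommRing L] [Algebra A L]
    [IsLocalization.Away g L] (h : Gen Φ m (I.map (algebraMap A L))) : GenLoc Φ m I P := by
  haveI : Module.Flat A (Localization.Away g) := IsLocalization.flat _ (Submonoid.powers g)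
  exact ⟨g, hg, gen_of_isUnit hP g L h _ (IsLocalization.Away.algebraMap_isUnit g)⟩

theorem genLoc_of_gen (hP : Good Φ) {m : ℕ} {I : Ideal A} (h : Gen Φ m I) (P : Ideal A) [hpr : P.IsPrime] :
    GenLoc Φ m I P := by
  haveI : IsLocalization.Away (1 : A) A := IsLocalization.away_of_isUnit_of_bijective _ isUnit_one Function.bijective_id
  refine genLoc_mk hP 1 (fun h1 => hpr.ne_top ((Ideal.eq_top_iff_one _).2 h1)) A ?_
  rwa [Algebra.algebraMap_self, Ideal.map_id]

/-- Being generated near a prime passes to localisations. -/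
theorem genLoc_away_iff (hP : Good Φ) {m : ℕ} {I : Ideal A} (g : A) (L : Type u) [CommRing L] [Algebra A L]
    [IsLocalization.Away g L] (P' : Ideal L) [P'.IsPrime] :
    GenLoc Φ m (I.map (algebraMap A L)) P' ↔ GenLoc Φ m I (P'.comap (algebraMap A L)) := by
  haveI : Module.Flat A L := IsLocalization.flat _ (Submonoid.powers g)
  have hg : g ∉ P'.comap (algebraMap A L) := fun h =>
    Ideal.IsPrime.ne_top ‹P'.IsPrime› (Ideal.eq_top_of_isUnit_mem _ h (IsLocalization.Away.algebraMap_isUnit g))
  constructor
  · rintro ⟨h, hh, hgen⟩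
    obtain ⟨k, a, ha⟩ := IsLocalization.Away.surj g h
    have haP : a ∉ P'.comap (algebraMap A L) := fun ha' => by
      rw [Ideal.mem_comap, ← ha] at ha'
      rcases Ideal.IsPrime.mem_or_mem ‹P'.IsPrime› ha' with h' | h'
      · exact hh h'
      · exact hg (Ideal.IsPrime.mem_of_pow_mem ‹P'.IsPrime› k h')
    let S := Localization.Away (g * a)
    haveI : Module.Flat A S := IsLocalization.flat _ (Submonoid.powers (g * a))
    have hu : IsUnit (algebraMap A S g) := isUnit_of_mul_isUnit_left
      (y := algebraMap A S a) (by rw [← map_mul]; exact IsLocalization.Away.algebraMap_isUnit _)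
    let φ : L →+* S := IsLocalization.Away.lift g hu
    have hφ : φ.comp (algebraMap A L) = algebraMap A S := IsLocalization.Away.lift_comp g hu
    letI := φ.toAlgebra
    haveI : IsScalarTower A L S := IsScalarTower.of_algebraMap_eq' hφ.symm
    haveI : Module.Flat L S :=
      (Module.flat_iff_of_isLocalization L (Submonoid.powers g) (M := S)).2 ‹_›
    have hh' : IsUnit (algebraMap L S h) := by
      refine isUnit_of_mul_isUnit_left (y := algebraMap L S (algebraMap A L g ^ k)) ?_
      rw [← map_mul, ha, ← IsScalarTower.algebraMap_apply]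
      exact isUnit_of_mul_isUnit_right (x := algebraMap A S g)
        (by rw [← map_mul]; exact IsLocalization.Away.algebraMap_isUnit _)
    have := gen_of_isUnit hP h (Localization.Away h) hgen S hh'
    rw [Ideal.map_map, ← IsScalarTower.algebraMap_eq] at this
    exact ⟨g * a, fun h' => ((Ideal.IsPrime.mem_or_mem inferInstance h').elim hg haP), this⟩
  · rintro ⟨a, ha, hgen⟩
    let S := Localization.Away (algebraMap A L a)
    haveI : Module.Flat L S := IsLocalization.flat _ (Submonoid.powers (algebraMap A L a))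
    haveI : Module.Flat A S := Module.Flat.trans A L S
    refine ⟨algebraMap A L a, ha, ?_⟩
    rw [Ideal.map_map, ← IsScalarTower.algebraMap_eq]
    refine gen_of_isUnit hP a (Localization.Away a) hgen S ?_
    rw [IsScalarTower.algebraMap_apply A L S]
    exact IsLocalization.Away.algebraMap_isUnit _

/-- Generators may be chosen with numerators in the base ring. -/
theorem exists_numerators (hP : Good Φ) {m : ℕ} {I : Ideal A} (g : A) (L : Type u) [CommRing L] [Algebra A L]
    [IsLocalization.Away g L] (h : Gen Φ m (I.map (algebraMap A L))) :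
    ∃ f : Fin m → A, Φ L m (algebraMap A L ∘ f) ∧
      I.map (algebraMap A L) = Ideal.span (Set.range (algebraMap A L ∘ f)) := by
  obtain ⟨f', hf', hI⟩ := h
  choose k a ha using fun i => IsLocalization.Away.surj g (f' i)
  have e : Ideal.span (Set.range (algebraMap A L ∘ a)) = Ideal.span (Set.range f') := by
    have hu : ∀ i, IsUnit (algebraMap A L g ^ k i) := fun i => (IsLocalization.Away.algebraMap_isUnit g).pow _
    refine le_antisymm (Ideal.span_le.2 ?_) (Ideal.span_le.2 ?_)
    · rintro _ ⟨i, rfl⟩
      rw [Function.comp_apply, ← ha i]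
      exact Ideal.mul_mem_right _ _ (Ideal.subset_span ⟨i, rfl⟩)
    · rintro _ ⟨i, rfl⟩
      refine (Ideal.mul_unit_mem_iff_mem _ (hu i)).1 ?_
      rw [ha i]
      exact Ideal.subset_span ⟨i, rfl⟩
  exact ⟨a, hP.card_eq hf' e, hI.trans e.symm⟩

/-- Elements of an invertible linear change generate the same ideal. -/
theorem span_mulVec {n : ℕ} (C : Matrix (Fin n) (Fin n) A) (hC : IsUnit C.det) (f : Fin n → A) :
    Ideal.span (Set.range (C.mulVec f)) = Ideal.span (Set.range f) := by
  refine le_antisymm (Ideal.span_le.2 ?_) (Ideal.span_le.2 ?_)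
  · rintro _ ⟨i, rfl⟩
    exact Ideal.mem_span_range_iff_exists_fun.2 ⟨C i, rfl⟩
  · rintro _ ⟨i, rfl⟩
    have : f = C⁻¹.mulVec (C.mulVec f) := by
      rw [Matrix.mulVec_mulVec, Matrix.nonsing_inv_mul _ hC, Matrix.one_mulVec]
    exact Ideal.mem_span_range_iff_exists_fun.2 ⟨C⁻¹ i, (congrFun this i).symm⟩

end Groth.Agent.Lib.KindDesc.Loc
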